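import Groth.Agent.Lib.DefFin26.Lift

/-!
# The class of a first order deformation in the finite space
-/

set_option autoImplicit false
set_option maxHeartbeats 1600000
set_option linter.style.haveILetI false
set_option backward.isDefEq.respectTransparency false
universe u

noncomputable section

open CategoryTheory CategoryTheory.Limits AlgebraicGeometry Opposite TopologicalSpace ArtFun ArtFun.Art IsLocalRing
open GrothLib.Ample (res res_res res_self res_appLE appLE_res)
open GrothLib.DefAut26 (str map_str)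

namespace GrothLib.DefFin26

variable {k : Type u} [Field k] {X : Scheme.{u}} {x : X ⟶ Spec (CommRingCat.of k)} {n : ℕ}
  {D : Ample.ProjMap.Data n x}

theorem res_str {A : Art k k} (η : DefSch X x A) {O O' : η.total.Opens} (h : O' ≤ O) (a : A) :
    res h (str η.f O a) = str η.f O' a :=
  map_str η.f h a

theorem mem_ker_dual {k : Type u} [Field k] (d : DualNumber k) (hd : TrivSqZeroExt.fst d = 0) :
    d ∈ Ideal.span {(DualNumber.eps : DualNumber k)} := by
  refine Ideal.mem_span_singleton'.2 ⟨TrivSqZeroExt.inl (TrivSqZeroExt.snd d), TrivSqZeroExt.ext ?_ ?_⟩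
  · simp [hd]
  · simp

variable {η : DefSch X x (D₁ k)}

theorem exists_eps {V : X.Opens} (hV : IsAffineOpen V) {b : Γ(η.total, ext η V)} (hb : red η V b = 0) :
    ∃ a, str η.f _ (eps : D₁ k) * a = b := by
  have hle : (RingHom.ker (D₁ k).res.toRingHom).map (str η.f (ext η V)) ≤
      Ideal.span {str η.f (ext η V) (eps : D₁ k)} := by
    rw [Ideal.map_le_iff_le_comap]
    intro d hd
    have h1 := Ideal.mem_map_of_mem (str η.f (ext η V)) (mem_ker_dual (show DualNumber k from d) hd)
    rw [Ideal.map_span, Set.image_singleton] at h1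
    exact h1
  obtain ⟨a, ha⟩ := Ideal.mem_span_singleton'.1 (hle (exists_of_red_eq_zero η hV hb))
  exact ⟨a, (mul_comm _ _).trans ha⟩

/-- A family of values on the overlaps. -/
abbrev Vals (D : Ample.ProjMap.Data n x) : Type u := ∀ j l : Fin (n + 1), Fin (n + 1) → Γ(X, UU D j l)

/-- The `(m, p)` entry in the frame of `j`. -/
def raw (α : Vals D) (j l m p : Fin (n + 1)) {V : X.Opens} (hj : V ≤ D.U j) (hl : V ≤ D.U l) : Γ(X, V) :=
  res hj (D.φ j m) * res (le_inf hj hl) (α j l p) - res hj (D.φ j p) * res (le_inf hj hl) (α j l m)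

theorem res_raw (α : Vals D) (j l m p : Fin (n + 1)) {V V' : X.Opens} (hj : V ≤ D.U j) (hl : V ≤ D.U l)
    (h : V' ≤ V) : res h (raw α j l m p hj hl) = raw α j l m p (h.trans hj) (h.trans hl) := by
  simp only [raw, map_sub, map_mul, res_res]

/-- The cochain of a family of values. -/
def omega (α : Vals D) : P2 n → C D 2 1 := fun t a =>
  el D 2 (a 0) (W_le D a 0) (raw α (a 0).down (a 1).down t.1 t.2 (W_le D a 0) (W_le D a 1))

theorem fr_resA_el {d : ℕ} {V V' : X.Opens} (j l : I.{u} n) (hj : V' ≤ D.U j.down) (hl : V ≤ D.U l.down)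
    (h : V' ≤ V) (r : Γ(X, V)) :
    fr D j hj (BCCoh.resA x (L D d) h (el D d l hl r)) = res hj (D.φ j.down l.down) ^ d * res h r := by
  rw [fr_change D j l hj (h.trans hl), fr_res D l hl h, fr_el]

/-- The identities of a first order failure. -/
def IsCocycle (α : Vals D) : Prop :=
  ∀ (j l q m : Fin (n + 1)) (V : X.Opens) (hj : V ≤ D.U j) (hl : V ≤ D.U l) (hq : V ≤ D.U q),
    res (le_inf hj hl) (α j l m) + res hj (D.φ j l) * res (le_inf hl hq) (α l q m) =
      res (le_inf hj hq) (α j q m) + res hq (D.φ q m) * res (le_inf hj hl) (α j l q)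

theorem omega_mem {α : Vals D} (hα : IsCocycle α) : omega α ∈ Zw D := by
  refine ⟨funext fun t => funext fun a => fr_ext D (a 0) (W_le D a 0) ?_, funext fun ⟨q, l, m⟩ => funext fun a =>
    fr_ext D (a 0) (W_le D a 0) ?_⟩
  · show fr D (a 0) _ (dd D 2 1 (omega α t) a) = fr D (a 0) _ (0 : BCCoh.secA x (L D 2) (W D a))
    rw [fr_zero, dd_one_apply, fr_add, fr_sub]
    dsimp only [omega]
    rw [fr_resA_el, fr_resA_el, fr_resA_el, res_raw, res_raw, res_raw]
    show res _ (D.φ (a 0).down (a 1).down) ^ 2 * raw α (a 1).down (a 2).down t.1 t.2 _ _ -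
        res _ (D.φ (a 0).down (a 0).down) ^ 2 * raw α (a 0).down (a 2).down t.1 t.2 _ _ +
        res _ (D.φ (a 0).down (a 0).down) ^ 2 * raw α (a 0).down (a 1).down t.1 t.2 _ _ = 0
    obtain ⟨m, p⟩ := t
    simp only [raw, D.self, map_one, one_pow, one_mul]
    have hj := W_le D a 0
    have hl := W_le D a 1
    have hq := W_le D a 2
    have e1 := hα (a 0).down (a 1).down (a 2).down m (W D a) hj hl hq
    have e2 := hα (a 0).down (a 1).down (a 2).down p (W D a) hj hl hq
    have c1 := D.change (a 0).down (a 1).down m (W D a) hj hl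
    have c2 := D.change (a 0).down (a 1).down p (W D a) hj hl
    have c3 := D.change (a 0).down (a 2).down m (W D a) hj hq
    have c4 := D.change (a 0).down (a 2).down p (W D a) hj hq
    set J := res hj (D.φ (a 0).down (a 1).down)
    set tm := res hj (D.φ (a 0).down m)
    set tp := res hj (D.φ (a 0).down p)
    set lm := res hl (D.φ (a 1).down m)
    set lp := res hl (D.φ (a 1).down p)
    set qm := res hq (D.φ (a 2).down m)
    set qp := res hq (D.φ (a 2).down p)
    set Q := res hj (D.φ (a 0).down (a 2).down)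
    set al := res (le_inf hj hl) (α (a 0).down (a 1).down (a 2).down)
    linear_combination tm * e2 - tp * e1 + qp * al * c3 - qm * al * c4 -
      (res (le_inf hl hq) (α (a 1).down (a 2).down p) * J) * c1 +
      (res (le_inf hl hq) (α (a 1).down (a 2).down m) * J) * c2
  · show fr D (a 0) _ (wedge D 1 (omega α) (q, l, m) a) = fr D (a 0) _ (0 : BCCoh.secA x (L D 3) (W D a))
    rw [fr_zero, wedge_apply]
    show fr D (a 0) _ (_ - _ + _) = _
    rw [fr_add, fr_sub]
    simp only [mulC_apply, fr_mulT, omega, fr_el, raw]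
    ring

/-- The class of a family of values. -/
def cls (α : Vals D) (hα : IsCocycle α) : T1 D := (Bw D).mkQ ⟨omega α, omega_mem hα⟩

theorem IsAlpha.isCocycle [X.IsSeparated] (haff : ∀ i, IsAffineOpen (D.U i)) {s : Lifts D η} {α : Vals D}
    (h : IsAlpha s α) : IsCocycle α := by
  intro j l q m V hj hl hq
  let W := D.U j ⊓ D.U l ⊓ D.U q
  have hj' : W ≤ D.U j := inf_le_left.trans inf_le_left
  have hl' : W ≤ D.U l := inf_le_left.trans inf_le_right
  have hq' : W ≤ D.U q := inf_le_right
  suffices H : res (le_inf hj' hl') (α j l m) + res hj' (D.φ j l) * res (le_inf hl' hq') (α l q m) =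
      res (le_inf hj' hq') (α j q m) + res hq' (D.φ q m) * res (le_inf hj' hl') (α j l q) by
    have hV : V ≤ W := le_inf (le_inf hj hl) hq
    have := congrArg (res hV) H
    simp only [map_add, map_mul, res_res] at this
    exact this
  obtain ⟨A1, hA1, eA1⟩ := h j l m
  obtain ⟨A2, hA2, eA2⟩ := h l q m
  obtain ⟨A3, hA3, eA3⟩ := h j q m
  obtain ⟨A4, hA4, eA4⟩ := h j l q
  have hW : IsAffineOpen W := ((haff j).inf (haff l)).inf (haff q)
  have key := (red_eq_of_eps (η := η) haff hW
    (a := res (ext_mono η (le_inf hj' hl')) A1 +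
      res (ext_mono η hj') (s.σ j l) * res (ext_mono η (le_inf hl' hq')) A2)
    (b := res (ext_mono η (le_inf hj' hq')) A3 +
      res (ext_mono η hq') (s.σ q m) * res (ext_mono η (le_inf hj' hl')) A4)).2 ?_
  · rw [map_add, map_add, map_mul, map_mul, red_res η hj', red_res η hq', red_res η (le_inf hj' hl'),
      red_res η (le_inf hl' hq'), red_res η (le_inf hj' hq'), red_res η (le_inf hj' hl'), hA1, hA2, hA3, hA4,
      s.red_σ, s.red_σ] at key
    exact key
  · have f1 := congrArg (res (ext_mono η (le_inf hj' hl'))) eA1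
    have f2 := congrArg (res (ext_mono η (le_inf hl' hq'))) eA2
    have f3 := congrArg (res (ext_mono η (le_inf hj' hq'))) eA3
    have f4 := congrArg (res (ext_mono η (le_inf hj' hl'))) eA4
    simp only [Lifts.err, map_sub, map_mul, res_str, res_res] at f1 f2 f3 f4
    linear_combination f1 + res (ext_mono η hj') (s.σ j l) * f2 - f3 - res (ext_mono η hq') (s.σ q m) * f4

theorem exists_alpha [X.IsSeparated] (haff : ∀ i, IsAffineOpen (D.U i)) (s : Lifts D η) :
    ∃ α : Vals D, IsAlpha s α := by
  choose a ha using fun j l m => exists_eps ((haff j).inf (haff l)) (s.red_err j l m)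
  exact ⟨fun j l m => red η _ (a j l m), fun j l m => ⟨a j l m, rfl, ha j l m⟩⟩

theorem IsAlpha.unique [X.IsSeparated] (haff : ∀ i, IsAffineOpen (D.U i)) {s : Lifts D η} {α β : Vals D}
    (h : IsAlpha s α) (h' : IsAlpha s β) : α = β := by
  funext j l m
  obtain ⟨a, ha0, ha⟩ := h j l m
  obtain ⟨b, hb, hb'⟩ := h' j l m
  rw [← ha0, ← hb]
  exact (red_eq_of_eps haff ((haff j).inf (haff l))).2 (ha.trans hb'.symm)

/-- Changing the lifts changes the values by a coboundary. -/
theorem alpha_change [X.IsSeparated] (haff : ∀ i, IsAffineOpen (D.U i)) {s s' : Lifts D η} {α α' : Vals D}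
    (h : IsAlpha s α) (h' : IsAlpha s' α') :
    ∃ r : ∀ j : Fin (n + 1), Fin (n + 1) → Γ(X, D.U j), (∀ j, r j j = 0) ∧ ∀ j l m,
      α' j l m = α j l m + res (inf_le_left : UU D j l ≤ _) (D.φ j l) * res inf_le_right (r l m) +
        res inf_le_right (D.φ l m) * res inf_le_left (r j l) - res inf_le_left (r j m) := by
  have hA : ∀ j m, ∃ A, str η.f _ (eps : D₁ k) * A = s'.σ j m - s.σ j m := fun j m =>
    exists_eps (haff j) (by rw [map_sub, s'.red_σ, s.red_σ, sub_self])
  choose A hA using hA
  refine ⟨fun j m => red η _ (A j m), fun j => ?_, fun j l m => ?_⟩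
  · have := (red_eq_of_eps (η := η) haff (haff j) (a := A j j) (b := 0)).2
      (by rw [hA, s'.σ_self, s.σ_self, sub_self, mul_zero])
    exact this.trans (map_zero _)
  · obtain ⟨a, ha, ea⟩ := h j l m
    obtain ⟨a', ha', ea'⟩ := h' j l m
    have hl : UU D j l ≤ D.U j := inf_le_left
    have hr : UU D j l ≤ D.U l := inf_le_right
    have key := (red_eq_of_eps (η := η) haff ((haff j).inf (haff l)) (a := a')
      (b := a + res (ext_mono η hl) (s.σ j l) * res (ext_mono η hr) (A l m) +
        res (ext_mono η hr) (s.σ l m) * res (ext_mono η hl) (A j l) - res (ext_mono η hl) (A j m))).2 ?_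
    · rw [map_sub, map_add, map_add, map_mul, map_mul, red_res η hl, red_res η hl, red_res η hl, red_res η hr,
        red_res η hr, ha, ha', s.red_σ, s.red_σ] at key
      exact key
    · have g1 := congrArg (res (ext_mono η hl)) (hA j l)
      have g2 := congrArg (res (ext_mono η hr)) (hA l m)
      have g3 := congrArg (res (ext_mono η hl)) (hA j m)
      simp only [Lifts.err, map_sub, map_mul, res_str, res_res] at g1 g2 g3 ea ea'
      have e0 : str η.f (ext η (UU D j l)) (eps : D₁ k) * str η.f _ eps = 0 := by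
        rw [← map_mul, (setup_eps η).t_sq, map_zero]
      set e := str η.f (ext η (UU D j l)) (eps : D₁ k)
      set P := res (ext_mono η hl) (A j l)
      set Q := res (ext_mono η hr) (A l m)
      linear_combination ea' - ea - res (ext_mono η hr) (s'.σ l m) * g1 - res (ext_mono η hl) (s.σ j l) * g2 + g3 -
        P * g2 * e + P * Q * e0

theorem cls_eq [X.IsSeparated] (haff : ∀ i, IsAffineOpen (D.U i)) {s s' : Lifts D η} {α α' : Vals D}
    (h : IsAlpha s α) (h' : IsAlpha s' α') : cls α' (h'.isCocycle haff) = cls α (h.isCocycle haff) := by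
  obtain ⟨r, hr0, hr⟩ := alpha_change haff h h'
  refine (Submodule.Quotient.eq _).2 ?_
  let b : P2 n → C D 2 0 := fun t a => el D 2 (a 0) (W_le D a 0)
    (res (W_le D a 0) (D.φ (a 0).down t.1 * r (a 0).down t.2 - D.φ (a 0).down t.2 * r (a 0).down t.1))
  refine ⟨b, funext fun ⟨q, l, m⟩ => funext fun a => fr_ext D (a 0) (W_le D a 0) ?_,
    funext fun t => funext fun a => fr_ext D (a 0) (W_le D a 0) ?_⟩
  · show fr D (a 0) _ (wedge D 0 b (q, l, m) a) = fr D (a 0) _ (0 : BCCoh.secA x (L D 3) (W D a))
    rw [fr_zero, wedge_apply]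
    show fr D (a 0) _ (_ - _ + _) = _
    rw [fr_add, fr_sub]
    simp only [mulC_apply, fr_mulT, b, fr_el, map_sub, map_mul]
    ring
  · obtain ⟨m, p⟩ := t
    show fr D (a 0) _ (dd D 2 0 (b (m, p)) a) = fr D (a 0) _ (omega α' (m, p) a - omega α (m, p) a)
    rw [dd_zero_apply, fr_sub, fr_sub]
    dsimp only [b, omega]
    rw [fr_resA_el, fr_resA_el, fr_el, fr_el]
    simp only [res_res]
    show res _ (D.φ (a 0).down (a 1).down) ^ 2 *
          res (W_le D a 1) (D.φ (a 1).down m * r (a 1).down p - D.φ (a 1).down p * r (a 1).down m) -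
        res _ (D.φ (a 0).down (a 0).down) ^ 2 *
          res (W_le D a 0) (D.φ (a 0).down m * r (a 0).down p - D.φ (a 0).down p * r (a 0).down m) = _
    have hj := W_le D a 0
    have hl := W_le D a 1
    have e1 := congrArg (res (le_inf hj hl)) (hr (a 0).down (a 1).down m)
    have e2 := congrArg (res (le_inf hj hl)) (hr (a 0).down (a 1).down p)
    have c1 := D.change (a 0).down (a 1).down m (W D a) hj hl
    have c2 := D.change (a 0).down (a 1).down p (W D a) hj hl
    simp only [map_add, map_sub, map_mul, res_res] at e1 e2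
    simp only [raw, D.self, map_one, one_pow, one_mul, map_sub, map_mul]
    set J := res hj (D.φ (a 0).down (a 1).down)
    set tm := res hj (D.φ (a 0).down m)
    set tp := res hj (D.φ (a 0).down p)
    set lm := res hl (D.φ (a 1).down m)
    set lp := res hl (D.φ (a 1).down p)
    set R := res hj (r (a 0).down (a 1).down)
    linear_combination -(tm * e2) + tp * e1 - (res hl (r (a 1).down p) * J + lp * R) * c1 +
      (res hl (r (a 1).down m) * J + lm * R) * c2

end GrothLib.DefFin26
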