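import Groth.Agent.Lib.BCCoh.CechA
import Groth.Agent.Lib.Ample.ProjMap
import Groth.Agent.Lib.Ample.Cocycle
import Groth.Agent.Lib.Euler.Coh
import Groth.Agent.Lib.ProjCoh.Finite

/-!
# The finite space receiving the obstruction to extending a projective embedding

For ratios `D : Data n x` of a proper `k`-scheme with affine pieces: one-cocycles of families `w (m, p)` of sections
of `O(2)` killed by `∧ T`, modulo coboundaries of such families. It maps to `H^1(O(2))` with kernel inside a
quotient of `H^0(O(3))`, so it is finite.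
-/

set_option autoImplicit false
set_option maxHeartbeats 800000
set_option linter.style.haveILetI false
set_option backward.isDefEq.respectTransparency false
universe u

noncomputable section

open CategoryTheory CategoryTheory.Limits AlgebraicGeometry Opposite TopologicalSpace
open GrothLib.Ample (res Cocycle)
open GrothLib.InvExt (mres)

namespace GrothLib.DefFin26

variable {k : Type u} [Field k] {X : Scheme.{u}} {x : X ⟶ Spec (CommRingCat.of k)} {n : ℕ}
  (D : Ample.ProjMap.Data n x)

/-- The constants, as functions. -/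
def cst (x : X ⟶ Spec (CommRingCat.of k)) (V : X.Opens) : k →+* Γ(X, V) := BCCoh.psiR x V

/-- The indices of the pieces. -/
abbrev I (n : ℕ) : Type u := ULift.{u} (Fin (n + 1))

/-- The cocycle of `O(1)`. -/
def coc : Cocycle X where
  ι := I.{u} n
  D i := D.U i.down
  g i j := res inf_le_left (D.φ i.down j.down)
  cover := by
    refine eq_top_iff.2 fun z _ => ?_
    obtain ⟨i, hi⟩ := Opens.mem_iSup.1 (D.cover ▸ Opens.mem_top z : z ∈ ⨆ i, D.U i)
    exact Opens.mem_iSup.2 ⟨⟨i⟩, hi⟩
  self i W h := by rw [D.self, map_one, map_one]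
  change i j l W hi hj hl := by
    rw [Ample.res_res, Ample.res_res, Ample.res_res]
    exact D.change _ _ _ W hi hj

theorem G_eq (i j : I.{u} n) {W : X.Opens} (hi : W ≤ D.U i.down) (hj : W ≤ D.U j.down) :
    (coc D).G i j hi hj = res hi (D.φ i.down j.down) :=
  Ample.res_res _ _ _

/-- The `d`-th twist. -/
abbrev L (d : ℕ) : X.Modules := (coc D).twist d

/-- The ratio, on the piece of the cocycle. -/
abbrev φ' (i : I.{u} n) (q : Fin (n + 1)) : Γ(X, (coc D).D i) := D.φ i.down q

theorem isFamily_mul (d : ℕ) (q : Fin (n + 1)) :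
    (coc D).IsFamily (M := L D (d + 1)) d
      (fun i => (φ' D i q • (coc D).base (d + 1) i le_rfl :
        (coc D).sect (d + 1) ((coc D).D i))) := by
  intro i j W hi hj
  show (coc D).sectRes hj (φ' D j q • _) = _ • (coc D).sectRes hi (φ' D i q • _)
  rw [(coc D).sectRes_smul, (coc D).sectRes_smul, (coc D).sectRes_base, (coc D).sectRes_base,
    (coc D).base_eq_smul_base (d + 1) i j hi hj, smul_smul]
  refine Eq.trans ?_ (smul_smul _ _ ((coc D).base (d + 1) i (hi.trans le_rfl))).symm
  congr 1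
  rw [pow_succ, G_eq D i j hi hj]
  refine Eq.trans ?_ (congrArg (fun t => res hi (D.φ i.down j.down) ^ d * t) (D.change i.down j.down q W hi hj)).symm
  exact (fun b c => by ring : ∀ b c : Γ(X, W), c * (b ^ d * b) = b ^ d * (b * c)) _ _

/-- Multiplication with the coordinate `q`. -/
def mulT (d : ℕ) (q : Fin (n + 1)) : L D d ⟶ L D (d + 1) := (coc D).homOfFamily (isFamily_mul D d q)

/-- The intersection attached to a tuple. -/
abbrev W {p : ℕ} (a : Fin (p + 1) → I.{u} n) : X.Opens := BCCoh.W (coc D).D a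

theorem W_le {p : ℕ} (a : Fin (p + 1) → I.{u} n) (r : Fin (p + 1)) : W D a ≤ D.U (a r).down := by
  rw [W, BCCoh.W, Cech.obj_eq_iInf]
  exact iInf_le (fun r => (coc D).D (a r)) r

/-- The cochains with values in `O(d)`. -/
abbrev C (d p : ℕ) : Type u := BCCoh.cxX x (coc D).D (L D d) p

/-- The value in the frame of the piece `j`. -/
def fr {d : ℕ} {V : X.Opens} (j : I.{u} n) (hV : V ≤ D.U j.down) (a : BCCoh.secA x (L D d) V) : Γ(X, V) :=
  res (le_inf le_rfl hV) ((show (coc D).sect d V from a).1 j)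

/-- The section with given value in the frame of the piece `j`. -/
def el (d : ℕ) {V : X.Opens} (j : I.{u} n) (hV : V ≤ D.U j.down) (r : Γ(X, V)) : BCCoh.secA x (L D d) V :=
  (r • (coc D).base d j hV : (coc D).sect d V)

theorem fr_el (d : ℕ) {V : X.Opens} (j : I.{u} n) (hV : V ≤ D.U j.down) (r : Γ(X, V)) :
    fr D j hV (el D d j hV r) = r := by
  show res _ ((r • (coc D).base d j hV).1 j) = r
  rw [(coc D).smul_apply, (coc D).base_self, mul_one, Ample.res_res, Ample.res_self]

theorem fr_ext {d : ℕ} {V : X.Opens} (j : I.{u} n) (hV : V ≤ D.U j.down) {a b : BCCoh.secA x (L D d) V}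
    (h : fr D j hV a = fr D j hV b) : a = b := by
  refine ((coc D).eq_smul_base j hV a).trans (Eq.trans ?_ ((coc D).eq_smul_base j hV b).symm)
  exact congrArg (fun r : Γ(X, V) => r • (coc D).base d j hV) h

variable {d : ℕ} {V V' : X.Opens}

theorem fr_zero (j : I.{u} n) (hV : V ≤ D.U j.down) : fr D j hV (0 : BCCoh.secA x (L D d) V) = 0 :=
  map_zero (res (le_inf le_rfl hV))

theorem fr_add (j : I.{u} n) (hV : V ≤ D.U j.down) (a b : BCCoh.secA x (L D d) V) :
    fr D j hV (a + b) = fr D j hV a + fr D j hV b :=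
  map_add (res (le_inf le_rfl hV)) _ _

theorem fr_sub (j : I.{u} n) (hV : V ≤ D.U j.down) (a b : BCCoh.secA x (L D d) V) :
    fr D j hV (a - b) = fr D j hV a - fr D j hV b :=
  map_sub (res (le_inf le_rfl hV)) _ _

theorem fr_smul (j : I.{u} n) (hV : V ≤ D.U j.down) (c : k) (a : BCCoh.secA x (L D d) V) :
    fr D j hV (c • a) = cst x V c * fr D j hV a := by
  refine (map_mul (res (le_inf le_rfl hV)) _ _).trans ?_
  exact congrArg (fun t : Γ(X, V) => t * fr D j hV a) ((Ample.res_res _ _ _).trans (by exact Ample.res_self _ (cst x V c)))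

theorem fr_res (j : I.{u} n) (hV : V ≤ D.U j.down) (h : V' ≤ V) (a : BCCoh.secA x (L D d) V) :
    fr D j (h.trans hV) (BCCoh.resA x (L D d) h a) = res h (fr D j hV a) := by
  refine (Ample.res_res _ _ _).trans ?_
  exact (Ample.res_res _ _ _).symm

theorem fr_change (j l : I.{u} n) (hj : V ≤ D.U j.down) (hl : V ≤ D.U l.down) (a : BCCoh.secA x (L D d) V) :
    fr D j hj a = res hj (D.φ j.down l.down) ^ d * fr D l hl a := by
  rw [← G_eq D j l hj hl]
  exact (coc D).sect_spec (show (coc D).sect d V from a) j l (le_inf le_rfl hj) (le_inf le_rfl hl)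

theorem fr_mulT (q : Fin (n + 1)) (j : I.{u} n) (hj : V ≤ D.U j.down) (a : BCCoh.secA x (L D d) V) :
    fr D j hj (BCCoh.appA x (mulT D d q) V a) = res hj (D.φ j.down q) * fr D j hj a := by
  have ha : (show (coc D).sect d V from a) = fr D j hj a • (coc D).base d j hj := (coc D).eq_smul_base j hj a
  have h1 : BCCoh.appA x (mulT D d q) V a =
      el D (d + 1) j hj (res hj (D.φ j.down q) * fr D j hj a) := by
    show (mulT D d q).app V (show (coc D).sect d V from a) = _
    conv_lhs => rw [ha]
    rw [Ample.app_smul (mulT D d q) (fr D j hj a) ((coc D).base d j hj), mulT,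
      (coc D).homOfFamily_base, el]
    have key : (coc D).sectRes hj (φ' D j q • (coc D).base (d + 1) j le_rfl) =
        res hj (φ' D j q) • (coc D).base (d + 1) j hj := by
      rw [(coc D).sectRes_smul, (coc D).sectRes_base]
    refine (congrArg (fun t : (coc D).sect (d + 1) V => fr D j hj a • t) key).trans ?_
    refine (smul_smul _ _ _).trans ?_
    exact congrArg (fun r : Γ(X, V) => r • (coc D).base (d + 1) j hj) (mul_comm _ _)
  rw [h1, fr_el]

/-- The differential. -/
abbrev dd (d p : ℕ) : C D d p →ₗ[k] C D d (p + 1) := (BCCoh.cxd x (coc D).D (L D d) p).hom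

theorem le_succAbove {p : ℕ} (a : Fin (p + 2) → I.{u} n) (r : Fin (p + 2)) :
    W D a ≤ W D fun l => a (r.succAbove l) :=
  leOfHom (Cech.proj (D := Opens X.carrier) (coc D).D a r)

theorem dd_zero_apply (y : C D d 0) (a : Fin 2 → I.{u} n) :
    dd D d 0 y a = BCCoh.resA x (L D d) (le_succAbove D a 0) (y fun l => a ((0 : Fin 2).succAbove l)) -
      BCCoh.resA x (L D d) (le_succAbove D a 1) (y fun l => a ((1 : Fin 2).succAbove l)) := by
  refine (BCCoh.cxd_apply x (coc D).D (L D d) 0 y a).trans ?_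
  simp [Fin.sum_univ_succ, sub_eq_add_neg]

theorem dd_one_apply (y : C D d 1) (a : Fin 3 → I.{u} n) :
    dd D d 1 y a = BCCoh.resA x (L D d) (le_succAbove D a 0) (y fun l => a ((0 : Fin 3).succAbove l)) -
      BCCoh.resA x (L D d) (le_succAbove D a 1) (y fun l => a ((1 : Fin 3).succAbove l)) +
      BCCoh.resA x (L D d) (le_succAbove D a 2) (y fun l => a ((2 : Fin 3).succAbove l)) := by
  refine (BCCoh.cxd_apply x (coc D).D (L D d) 1 y a).trans ?_
  simp [Fin.sum_univ_succ, sub_eq_add_neg]
  abel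

theorem dd_comp (p : ℕ) (y : C D d p) : dd D d (p + 1) (dd D d p y) = 0 :=
  ConcreteCategory.congr_hom (BCCoh.cxd_comp x (coc D).D (L D d) p) y

/-- Multiplication with a coordinate, on cochains. -/
def mulC (d p : ℕ) (q : Fin (n + 1)) : C D d p →ₗ[k] C D (d + 1) p :=
  ((BCCoh.cxMap x (coc D).D (mulT D d q)).f p).hom

theorem mulC_apply (p : ℕ) (q : Fin (n + 1)) (y : C D d p) (a : Fin (p + 1) → I.{u} n) :
    mulC D d p q y a = BCCoh.appA x (mulT D d q) (W D a) (y a) := rfl

theorem dd_mulC (p : ℕ) (q : Fin (n + 1)) (y : C D d p) :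
    dd D (d + 1) p (mulC D d p q y) = mulC D d (p + 1) q (dd D d p y) := by
  have h := ConcreteCategory.congr_hom ((BCCoh.cxMap x (coc D).D (mulT D d q)).comm p (p + 1)) y
  simp only [BCCoh.cx_d] at h
  exact h

/-- Pairs of coordinates. -/
abbrev P2 (n : ℕ) : Type := Fin (n + 1) × Fin (n + 1)

/-- Triples of coordinates. -/
abbrev P3 (n : ℕ) : Type := Fin (n + 1) × Fin (n + 1) × Fin (n + 1)

/-- The differential on families. -/
abbrev dN {ι : Type} (d p : ℕ) : (ι → C D d p) →ₗ[k] ι → C D d (p + 1) := (dd D d p).compLeft ι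

/-- Wedge with the coordinates. -/
def wedge (p : ℕ) : (P2 n → C D 2 p) →ₗ[k] P3 n → C D 3 p :=
  LinearMap.pi fun t => (mulC D 2 p t.1).comp (LinearMap.proj (t.2.1, t.2.2)) -
    (mulC D 2 p t.2.1).comp (LinearMap.proj (t.1, t.2.2)) +
    (mulC D 2 p t.2.2).comp (LinearMap.proj (t.1, t.2.1))

theorem wedge_apply (p : ℕ) (b : P2 n → C D 2 p) (q l m : Fin (n + 1)) :
    wedge D p b (q, l, m) = mulC D 2 p q (b (l, m)) - mulC D 2 p l (b (q, m)) + mulC D 2 p m (b (q, l)) := rfl

theorem dN_wedge (p : ℕ) (b : P2 n → C D 2 p) : dN D 3 p (wedge D p b) = wedge D (p + 1) (dN D 2 p b) := by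
  funext ⟨q, l, m⟩
  show dd D 3 p (_ - _ + _) = mulC D 2 (p + 1) q (dd D 2 p _) - mulC D 2 (p + 1) l (dd D 2 p _) +
    mulC D 2 (p + 1) m (dd D 2 p _)
  rw [map_add, map_sub]
  exact congrArg₂ (· + ·) (congrArg₂ (· - ·) (dd_mulC D p q _) (dd_mulC D p l _)) (dd_mulC D p m _)

/-- Cocycles killed by the wedge. -/
def Zw : Submodule k (P2 n → C D 2 1) := LinearMap.ker (dN D 2 1) ⊓ LinearMap.ker (wedge D 1)

/-- Coboundaries of families killed by the wedge. -/
def Bw : Submodule k (Zw D) := ((LinearMap.ker (wedge D 0)).map (dN D 2 0)).comap (Zw D).subtype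

/-- The space receiving the obstruction. -/
abbrev T1 : Type u := Zw D ⧸ Bw D

section Finite

variable [IsProper x] (haff : ∀ i, IsAffineOpen (D.U i))

include haff in
theorem finite_homology (d p : ℕ) : Module.Finite k ((BCCoh.cx x (coc D).D (L D d)).homology p) := by
  letI : X.Over (Spec (CommRingCat.of k)) := ⟨x⟩
  haveI : IsProper (X ↘ Spec (CommRingCat.of k)) := ‹IsProper x›
  haveI : IsLocallyNoetherian X := LocallyOfFiniteType.isLocallyNoetherian x
  haveI : X.IsSeparated := ⟨by
    rw [show terminal.from X = x ≫ terminal.from _ from terminalIsTerminal.hom_ext _ _]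
    infer_instance⟩
  have hcoh : Coh.IsCoh (L D d) := Euler.isCoh_of_isInvertible ((coc D).isInvertible_twist d)
  obtain ⟨e, he, -⟩ := BCCoh.exists_linearEquiv x (coc D).D (coc D).cover
    (fun m a => IsAffineOpen.iInf fun r => haff (a r).down) p
  have := ProjCoh.moduleFinite_HH k (L D d) hcoh p
  let f : Coh.HH X (L D d) p →ₗ[k] (BCCoh.cx x (coc D).D (L D d)).homology p :=
    { toFun := e _ hcoh.1
      map_add' := map_add _
      map_smul' := fun r z => he _ hcoh.1 r z }
  exact Module.Finite.of_surjective f (e _ hcoh.1).surjective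

include haff in
theorem finite_quotient (d : ℕ) : Module.Finite k
    (LinearMap.ker (dd D d 1) ⧸ (LinearMap.range (dd D d 0)).comap (LinearMap.ker (dd D d 1)).subtype) := by
  haveI := finite_homology D haff d 1
  let K := BCCoh.cx x (coc D).D (L D d)
  let S := K.sc' 0 1 2
  let e : K.homology 1 ≃ₗ[k] S.moduleCatLeftHomologyData.H :=
    (K.homologyIsoSc' 0 1 2 (by simp) (by simp) ≪≫ S.moduleCatHomologyIso).toLinearEquiv
  haveI : Module.Finite k (LinearMap.ker S.g.hom ⧸ LinearMap.range S.moduleCatToCycles) := Module.Finite.equiv e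
  have h1 : S.g.hom = dd D d 1 := by
    show (K.d 1 2).hom = _
    rw [show K.d 1 2 = BCCoh.cxd x (coc D).D (L D d) 1 from BCCoh.cx_d _ _ _ 1]
  have h0 : S.f.hom = dd D d 0 := by
    show (K.d 0 1).hom = _
    rw [show K.d 0 1 = BCCoh.cxd x (coc D).D (L D d) 0 from BCCoh.cx_d _ _ _ 0]
  let g : LinearMap.ker S.g.hom →ₗ[k]
      LinearMap.ker (dd D d 1) ⧸ (LinearMap.range (dd D d 0)).comap (LinearMap.ker (dd D d 1)).subtype :=
    (Submodule.mkQ _).comp (LinearEquiv.ofEq _ _ (congrArg LinearMap.ker h1)).toLinearMap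
  refine Module.Finite.of_surjective ((LinearMap.range S.moduleCatToCycles).liftQ g ?_) ?_
  · rintro _ ⟨y, rfl⟩
    refine (Submodule.Quotient.mk_eq_zero _).2 ⟨y, ?_⟩
    exact (LinearMap.congr_fun h0 y).symm
  · rintro ⟨z⟩
    exact ⟨Submodule.Quotient.mk ⟨z.1, by rw [h1]; exact z.2⟩, rfl⟩

include haff in
theorem finite_ker_zero (d : ℕ) : Module.Finite k (LinearMap.ker (dd D d 0)) := by
  haveI := finite_homology D haff d 0
  let K := BCCoh.cx x (coc D).D (L D d)
  let S := K.sc' 0 0 1
  let e : K.homology 0 ≃ₗ[k] S.moduleCatLeftHomologyData.H :=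
    (K.homologyIsoSc' 0 0 1 (by simp) (by simp) ≪≫ S.moduleCatHomologyIso).toLinearEquiv
  haveI : Module.Finite k (LinearMap.ker S.g.hom ⧸ LinearMap.range S.moduleCatToCycles) := Module.Finite.equiv e
  have h1 : S.g.hom = dd D d 0 := by
    show (K.d 0 1).hom = _
    rw [show K.d 0 1 = BCCoh.cxd x (coc D).D (L D d) 0 from BCCoh.cx_d _ _ _ 0]
  have h0 : LinearMap.range S.moduleCatToCycles = ⊥ := by
    refine LinearMap.range_eq_bot.2 (LinearMap.ext fun y => Subtype.ext ?_)
    show (K.d 0 0).hom y = 0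
    rw [K.shape 0 0 (by simp)]
    rfl
  have hK : Module.Finite k (LinearMap.ker S.g.hom) :=
    Module.Finite.equiv (Submodule.quotEquivOfEqBot (LinearMap.range S.moduleCatToCycles) h0)
  rw [h1] at hK
  exact hK

include haff in
theorem finite_T1 : Module.Finite k (T1 D) := by
  haveI := finite_quotient D haff 2
  haveI := finite_ker_zero D haff 3
  let B := (LinearMap.range (dd D 2 0)).comap (LinearMap.ker (dd D 2 1)).subtype
  let p0 : Zw D →ₗ[k] P2 n → LinearMap.ker (dd D 2 1) ⧸ B :=
    LinearMap.pi fun t => B.mkQ.comp (((LinearMap.proj t).comp (Zw D).subtype).codRestrict _ fun z =>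
      congrFun z.2.1 t)
  let p : T1 D →ₗ[k] P2 n → LinearMap.ker (dd D 2 1) ⧸ B := (Bw D).liftQ p0 fun z hz => by
    obtain ⟨b, -, hb⟩ := hz
    refine funext fun t => (Submodule.Quotient.mk_eq_zero _).2 ?_
    exact ⟨b t, congrFun hb t⟩
  -- the kernel of `p` is a quotient of global sections of `O(3)`
  let P : Submodule k (P2 n → C D 2 0) := LinearMap.ker ((wedge D 1).comp (dN D 2 0))
  let s : P →ₗ[k] Zw D := ((dN D 2 0).comp P.subtype).codRestrict _ fun b =>
    ⟨funext fun t => dd_comp D 0 (b.1 t), b.2⟩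
  let w : P →ₗ[k] P3 n → LinearMap.ker (dd D 3 0) :=
    LinearMap.pi fun t => (((LinearMap.proj t).comp (wedge D 0)).comp P.subtype).codRestrict _ fun b => by
      show dd D 3 0 (wedge D 0 b.1 t) = 0
      exact congrFun ((dN_wedge D 0 b.1).trans b.2) t
  let q : (P ⧸ LinearMap.ker w) →ₗ[k] T1 D := (LinearMap.ker w).liftQ ((Bw D).mkQ.comp s) fun b hb => by
    refine (Submodule.Quotient.mk_eq_zero _).2 ⟨b.1, ?_, rfl⟩
    exact funext fun t => congrArg Subtype.val (congrFun hb t)
  haveI : Module.Finite k (P ⧸ LinearMap.ker w) := Module.Finite.equiv w.quotKerEquivRange.symm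
  have hker : LinearMap.ker p ≤ LinearMap.range q := by
    intro z hz
    induction z using Submodule.Quotient.induction_on with | H z =>
    have h : ∀ t, ∃ y : C D 2 0, dd D 2 0 y = z.1 t := fun t => by
      have := (Submodule.Quotient.mk_eq_zero B).1 (congrFun hz t)
      exact this
    choose b hb using h
    have hb' : dN D 2 0 b = z.1 := funext hb
    refine ⟨Submodule.Quotient.mk ⟨b, show wedge D 1 (dN D 2 0 b) = 0 by rw [hb']; exact z.2.2⟩, ?_⟩
    exact congrArg (Bw D).mkQ (Subtype.ext hb')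
  haveI : Module.Finite k (LinearMap.range q) := Module.Finite.range q
  haveI : Module.Finite k (LinearMap.ker p) :=
    Module.Finite.of_injective (Submodule.inclusion hker) (Submodule.inclusion_injective hker)
  haveI : Module.Finite k (T1 D ⧸ LinearMap.ker p) := Module.Finite.equiv p.quotKerEquivRange.symm
  exact Module.Finite.of_submodule_quotient (LinearMap.ker p)

end Finite

end GrothLib.DefFin26
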