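import Groth.Agent.Lib.DefFin26.Linear
import Groth.Agent.Lib.ProjSp.OverAffine
import Groth.Prelude.Def_ArtFun6

/-!
# Deformations with vanishing class are embedded
-/

set_option autoImplicit false
set_option maxHeartbeats 1600000
set_option linter.style.haveILetI false
set_option backward.isDefEq.respectTransparency false
universe u

noncomputable section

open CategoryTheory CategoryTheory.Limits AlgebraicGeometry Opposite TopologicalSpace ArtFun ArtFun.Art IsLocalRing
open GrothLib.Ample (res res_res res_self res_appLE appLE_res)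
open GrothLib.DefAut26 (str map_str)

namespace GrothLib.DefFin26

variable {k : Type u} [Field k] {X : Scheme.{u}} {x : X ⟶ Spec (CommRingCat.of k)} {n : ℕ}

section Exact

variable {D : Ample.ProjMap.Data n x} {η : DefSch X x (D₁ k)} (haff : ∀ i, IsAffineOpen (D.U i))

theorem le_W_const (j : I.{u} n) : D.U j.down ≤ W D (fun _ : Fin 1 => j) := by
  rw [W, BCCoh.W, Cech.obj_eq_iInf]
  exact le_iInf fun _ => le_rfl

include haff in
/-- A class that vanishes allows exact lifts. -/
theorem exists_exact [X.IsSeparated] {s : Lifts D η} {α : Vals D} (hα : IsAlpha s α)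
    (h0 : cls α (hα.isCocycle haff) = 0) : ∃ s' : Lifts D η, ∀ j l m, s'.err j l m = 0 := by
  obtain ⟨b, hb, hbd⟩ := (Submodule.Quotient.mk_eq_zero _).1 h0
  let r : ∀ j : Fin (n + 1), Fin (n + 1) → Γ(X, D.U j) := fun j m =>
    res (le_W_const ⟨j⟩) (fr D ⟨j⟩ (W_le D (fun _ : Fin 1 => (⟨j⟩ : I.{u} n)) 0) (b (j, m) fun _ => ⟨j⟩))
  -- the relations of a family killed by the wedge
  have hK : ∀ (j l m : Fin (n + 1)) (V : X.Opens) (hj : V ≤ D.U j),
      res (hj.trans (le_W_const ⟨j⟩)) (fr D ⟨j⟩ (W_le D (fun _ : Fin 1 => (⟨j⟩ : I.{u} n)) 0) (b (l, m) fun _ => ⟨j⟩)) =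
        res hj (D.φ j l) * res hj (r j m) - res hj (D.φ j m) * res hj (r j l) := by
    intro j l m V hj
    have hW := W_le D (fun _ : Fin 1 => (⟨j⟩ : I.{u} n)) 0
    have h := congrArg (fun z => fr D ⟨j⟩ hW (z (j, l, m) fun _ => ⟨j⟩)) (show wedge D 0 b = 0 from hb)
    rw [show (0 : P3 n → C D 3 0) (j, l, m) (fun _ => ⟨j⟩) = (0 : BCCoh.secA x (L D 3) _) from rfl, fr_zero,
      wedge_apply] at h
    replace h : fr D ⟨j⟩ hW (mulC D 2 0 j (b (l, m)) (fun _ => ⟨j⟩) - mulC D 2 0 l (b (j, m)) (fun _ => ⟨j⟩) +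
      mulC D 2 0 m (b (j, l)) (fun _ => ⟨j⟩)) = 0 := h
    rw [fr_add, fr_sub] at h
    simp only [mulC_apply, fr_mulT, D.self, map_one, one_mul] at h
    have h' := congrArg (res (hj.trans (le_W_const ⟨j⟩))) h
    simp only [map_add, map_sub, map_mul, map_zero, res_res] at h'
    simp only [r, res_res]
    linear_combination h'
  have hr0 : ∀ j, r j j = 0 := fun j => by
    have h := hK j j j (D.U j) le_rfl
    rw [res_self] at h
    have h1 : res le_rfl (r j j) = r j j := res_self _ _
    simp only [D.self, map_one, one_mul, h1] at h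
    simpa [r] using h
  -- the values
  have hval : ∀ j l m, α j l m = res (inf_le_left : UU D j l ≤ _) (D.φ j l) * res inf_le_right (r l m) +
      res inf_le_right (D.φ l m) * res inf_le_left (r j l) - res inf_le_left (r j m) := by
    intro j l m
    have hl : α j l l = 0 := by
      obtain ⟨a, ha, ea⟩ := hα j l l
      have e0 : s.err j l l = 0 := by
        rw [Lifts.err, s.σ_self, map_one, mul_one, sub_self]
      rw [← ha, (red_eq_of_eps (η := η) haff ((haff j).inf (haff l)) (a := a) (b := 0)).2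
        (by rw [ea, e0, mul_zero]), map_zero]
    let a : Fin 2 → I.{u} n := ![⟨j⟩, ⟨l⟩]
    have hj : UU D j l ≤ D.U j := inf_le_left
    have hl' : UU D j l ≤ D.U l := inf_le_right
    have hW : UU D j l ≤ W D a := by
      rw [W, BCCoh.W, Cech.obj_eq_iInf]
      exact le_iInf (Fin.forall_fin_two.2 ⟨inf_le_left, inf_le_right⟩)
    have h := congrArg (fun z => res hW (fr D ⟨j⟩ (W_le D a 0) (z (l, m) a))) hbd
    replace h : res hW (fr D ⟨j⟩ (W_le D a 0) (dd D 2 0 (b (l, m)) a)) =
        res hW (fr D ⟨j⟩ (W_le D a 0) (el D 2 (a 0) (W_le D a 0)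
          (raw α (a 0).down (a 1).down l m (W_le D a 0) (W_le D a 1)))) := h
    rw [dd_zero_apply, fr_sub] at h
    erw [fr_el] at h
    rw [fr_change D ⟨j⟩ ⟨l⟩ (W_le D a 0) (W_le D a 1)] at h
    have hf0 : (fun q : Fin 1 => a ((0 : Fin 2).succAbove q)) = fun _ => (⟨l⟩ : I.{u} n) :=
      funext fun q => by fin_cases q; rfl
    have hf1 : (fun q : Fin 1 => a ((1 : Fin 2).succAbove q)) = fun _ => (⟨j⟩ : I.{u} n) :=
      funext fun q => by fin_cases q; rfl
    have hface : ∀ (i : I.{u} n) (f : Fin 1 → I.{u} n) (hf : f = fun _ => i) (hle : W D a ≤ W D f)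
        (hi : W D a ≤ D.U i.down), fr D i hi (BCCoh.resA x (L D 2) hle (b (l, m) f)) =
          res (hi.trans (le_W_const i))
            (fr D i (W_le D (fun _ : Fin 1 => i) 0) (b (l, m) fun _ => i)) := by
      rintro i f rfl hle hi
      exact fr_res D i (W_le D (fun _ : Fin 1 => i) 0) hle _
    erw [hface ⟨l⟩ _ hf0 (le_succAbove D a 0), hface ⟨j⟩ _ hf1 (le_succAbove D a 1)] at h
    simp only [map_sub, map_mul, map_pow, res_res] at h
    erw [res_res, res_res, res_raw] at h
    have e1 : res (hl'.trans (le_W_const ⟨l⟩)) (fr D ⟨l⟩ (W_le D (fun _ : Fin 1 => (⟨l⟩ : I.{u} n)) 0)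
        (b (l, m) fun _ => ⟨l⟩)) = res hl' (r l m) := (res_res _ _ _).symm
    have e2 := hK j l m _ hj
    have key : res hj (D.φ j l) ^ 2 * res hl' (r l m) -
        (res hj (D.φ j l) * res hj (r j m) - res hj (D.φ j m) * res hj (r j l)) =
        res hj (D.φ j l) * res (le_inf hj hl') (α j l m) - res hj (D.φ j m) * res (le_inf hj hl') (α j l l) := by
      rw [← e1, ← e2]
      simp only [fr, raw, res_res, map_sub, map_mul] at h ⊢
      exact h
    rw [hl, map_zero, mul_zero, sub_zero, res_self] at key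
    have hu : IsUnit (res hj (D.φ j l)) := IsUnit.of_mul_eq_one _
      (show res hj (D.φ j l) * res hl' (D.φ l j) = 1 by rw [← D.change j l j _ hj hl', D.self, map_one])
    refine hu.mul_left_cancel ?_
    linear_combination -key + res hj (r j l) * D.change j l m _ hj hl'
  -- the exact lifts
  have hA : ∀ j m, ∃ A, red η (D.U j) A = r j m ∧ (m = j → A = 0) := fun j m => by
    by_cases hm : m = j
    · exact ⟨0, by rw [map_zero, hm, hr0], fun _ => rfl⟩
    · obtain ⟨A, hA⟩ := red_surjective η (haff j) (r j m)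
      exact ⟨A, hA, fun h => absurd h hm⟩
  choose A hA hA0 using hA
  have hres0 : (D₁ k).res.toRingHom eps = 0 := DualNumber.fst_eps
  refine ⟨⟨fun j m => s.σ j m - str η.f _ (eps : D₁ k) * A j m, fun j m => ?_, fun j => ?_⟩, fun j l m => ?_⟩
  · rw [map_sub, map_mul, red_str, show (D₁ k).res eps = 0 from hres0, map_zero, zero_mul, sub_zero, s.red_σ]
  · rw [hA0 j j rfl, mul_zero, sub_zero, s.σ_self]
  · obtain ⟨a, ha, ea⟩ := hα j l m
    have hj : UU D j l ≤ D.U j := inf_le_left
    have hl : UU D j l ≤ D.U l := inf_le_right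
    have key := (red_eq_of_eps (η := η) haff ((haff j).inf (haff l)) (a := a)
      (b := res (ext_mono η hj) (s.σ j l) * res (ext_mono η hl) (A l m) +
        res (ext_mono η hl) (s.σ l m) * res (ext_mono η hj) (A j l) - res (ext_mono η hj) (A j m))).1 (by
      rw [map_sub, map_add, map_mul, map_mul, red_res η hj, red_res η hj, red_res η hl, red_res η hl,
        red_res η hj, s.red_σ, s.red_σ, hA, hA, hA, ha, hval])
    have e0 : str η.f (ext η (UU D j l)) (eps : D₁ k) * str η.f _ eps = 0 := by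
      rw [← map_mul, (setup_eps η).t_sq, map_zero]
    simp only [Lifts.err, map_sub, map_mul, res_str] at ea ⊢
    linear_combination -ea + key + res (ext_mono η hj) (A j l) * res (ext_mono η hl) (A l m) * e0

end Exact

end GrothLib.DefFin26
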