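import Groth.Agent.Lib.DefFin26.Graph
import Groth.Agent.Lib.LocalHilb26.Projective
import Groth.Agent.Lib.Chow.Prod

/-!
# From embedded deformations to abstract deformations, and finiteness of the tangent space of `Def`
-/

set_option autoImplicit false
set_option maxHeartbeats 1600000
set_option linter.style.haveILetI false
set_option backward.isDefEq.respectTransparency false
universe u

noncomputable section

open CategoryTheory CategoryTheory.Limits AlgebraicGeometry Opposite TopologicalSpace ArtFun ArtFun.Art IsLocalRing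

namespace GrothLib.DefFin26

variable {k : Type u} [Field k] {X P : Scheme.{u}} {x : X ⟶ specPt k} (y : P ⟶ specPt k) (c : X ⟶ P)
  [IsClosedImmersion c] (hc : c ≫ y = x)

/-- `η` is the abstract deformation underlying the embedded deformation `I`. -/
def Rep {A : Art k k} (I : (localHilb P y c.ker).obj A) (η : DefSch X x A) : Prop :=
  ∃ j : η.total ⟶ XA y A, IsClosedImmersion j ∧ j.ker = I.1 ∧ j ≫ XApr y A = η.f ∧ η.i ≫ j = c ≫ XAincl y A

variable {A : Art k k} {I : (localHilb P y c.ker).obj A}

include hc in
theorem exists_rep (I : (localHilb P y c.ker).obj A) : ∃ η : DefSch X x A, Rep y c I η := by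
  let ξ := objectOf I
  have h1 : IsPullback c.toImage x (subOver y c.ker) (𝟙 (specPt k)) := IsPullback.of_horiz_isIso ⟨by
    rw [Category.comp_id]
    show c.toImage ≫ c.imageι ≫ y = x
    rw [Scheme.Hom.toImage_imageι_assoc, hc]⟩
  refine ⟨{ total := ξ.total, f := ξ.f, flat := ξ.flat, i := c.toImage ≫ ξ.i,
            isPullback := by
              have h2 := h1.paste_horiz ξ.isPullback
              rwa [Category.id_comp] at h2 }, I.1.subschemeι, inferInstance,
    Scheme.IdealSheafData.ker_subschemeι _, rfl, ?_⟩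
  show (c.toImage ≫ fibreMap I ≫ pullback.snd (XAincl y A) I.1.subschemeι) ≫ I.1.subschemeι = _
  rw [Category.assoc, Category.assoc, ← pullback.condition, ← Category.assoc (fibreMap I), fibreMap_fst,
    ← Category.assoc]
  congr 1
  exact Scheme.Hom.toImage_imageι c

variable {y c}

theorem Rep.unique {η η' : DefSch X x A} (h : Rep y c I η) (h' : Rep y c I η') : η.cl = η'.cl := by
  obtain ⟨j, hj, hk, hp, hi⟩ := h
  obtain ⟨j', hj', hk', hp', hi'⟩ := h'
  let φ : η.total ⟶ η'.total := IsClosedImmersion.lift j' j (le_of_eq (hk'.trans hk.symm))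
  have hφ : φ ≫ j' = j := IsClosedImmersion.lift_fac _ _ _
  haveI : IsIso φ := IsClosedImmersion.isIso_of_ker_eq _ _ φ hφ (hk.trans hk'.symm)
  refine Quotient.sound ⟨⟨asIso φ, ?_, ?_⟩⟩
  · show φ ≫ η'.f = η.f
    rw [← hp', ← Category.assoc, hφ, hp]
  · show η.i ≫ φ = η'.i
    rw [← cancel_mono j', Category.assoc, hφ, hi, hi']

include hc in
theorem Rep.map {B : Art k k} (g : A ⟶ B) {η : DefSch X x A} (h : Rep y c I η) :
    Rep y c ((localHilb P y c.ker).map g I) (η.baseChange g) := by
  obtain ⟨j, hj, hk, hp, hi⟩ := h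
  have hw : (pullback.fst η.f (specMap g) ≫ j) ≫ XApr y A = pullback.snd η.f (specMap g) ≫ specMap g := by
    rw [Category.assoc, hp, pullback.condition]
  let j' : (η.baseChange g).total ⟶ XA y B :=
    (isPullback_XAmap y g).lift (pullback.fst η.f (specMap g) ≫ j) (pullback.snd η.f (specMap g)) hw
  have h1 : j' ≫ XAmap y g = pullback.fst η.f (specMap g) ≫ j := (isPullback_XAmap y g).lift_fst _ _ _
  have h2 : j' ≫ XApr y B = pullback.snd η.f (specMap g) := (isPullback_XAmap y g).lift_snd _ _ _
  have sq : IsPullback j' (pullback.fst η.f (specMap g)) (XAmap y g) j := by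
    refine (IsPullback.of_bot ?_ h1.symm (isPullback_XAmap y g)).flip
    rw [h2, hp]
    exact IsPullback.of_hasPullback η.f (specMap g)
  refine ⟨j', MorphismProperty.of_isPullback (P := @IsClosedImmersion) sq.flip hj, ?_, h2, ?_⟩
  · show j'.ker = I.1.comap (XAmap y g)
    rw [← hk, ← Scheme.IdealSheafData.ker_fst_of_isClosedImmersion, ← sq.isoPullback_hom_fst,
      Scheme.Hom.ker_comp_of_isIso]
  · apply (isPullback_XAmap y g).hom_ext
    · rw [Category.assoc, h1, ← Category.assoc, DefSch.baseChange_i_fst, hi, Category.assoc, XAincl_XAmap]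
    · rw [Category.assoc, h2, DefSch.baseChange_i_f, Category.assoc, XAincl_snd, ← Category.assoc, hc]

end GrothLib.DefFin26
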