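import Groth.Agent.Lib.DefFin26.Embed

/-!
# Exact lifts of the ratios embed the deformation
-/

set_option autoImplicit false
set_option maxHeartbeats 1600000
set_option linter.style.haveILetI false
set_option backward.isDefEq.respectTransparency false
universe u

noncomputable section

open CategoryTheory CategoryTheory.Limits AlgebraicGeometry Opposite TopologicalSpace ArtFun ArtFun.Art IsLocalRing
open GrothLib.Ample (res res_res res_self res_appLE appLE_res)
open GrothLib.DefAut26 (str map_str)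

namespace GrothLib.DefFin26

variable {k : Type u} [Field k] {X : Scheme.{u}} {x : X ⟶ Spec (CommRingCat.of k)} {n : ℕ}

/-- A morphism over the dual numbers which is a closed immersion on the closed fibre is one. -/
theorem isClosedImmersion_of_fibre {η : DefSch X x (D₁ k)} {S : Scheme.{u}} (p : S ⟶ spec (D₁ k)) (j : η.total ⟶ S)
    (hj : j ≫ p = η.f) [IsClosedImmersion (η.i ≫ j)] : IsClosedImmersion j := by
  have hpre : ∀ V : S.Opens, ext η ((η.i ≫ j) ⁻¹ᵁ V) = j ⁻¹ᵁ V := fun V => by
    rw [Scheme.Hom.comp_preimage, ext_preimage]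
  refine isClosedImmersion_iff_isAffineHom.2 ⟨⟨fun V hV => ?_⟩, fun V hV => ?_⟩
  · rw [← hpre]
    exact isAffineOpen_ext η (hV.preimage (η.i ≫ j))
  · intro b
    have key : ∀ b : Γ(η.total, j ⁻¹ᵁ V), ∃ (s : Γ(S, V)) (b' : Γ(η.total, j ⁻¹ᵁ V)),
        b = (j.app V).hom s + str η.f (j ⁻¹ᵁ V) (eps : D₁ k) * b' := by
      intro b
      obtain ⟨s, hs⟩ := (η.i ≫ j).app_surjective V hV ((η.i.app (j ⁻¹ᵁ V)).hom b)
      rw [Scheme.Hom.comp_app, CommRingCat.comp_apply] at hs
      let W : X.Opens := (η.i ≫ j) ⁻¹ᵁ V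
      let b₀ : Γ(η.total, ext η W) := res (hpre V).le (b - (j.app V).hom s)
      have h0 : red η W b₀ = 0 := by
        show (η.i.appLE _ W _).hom (res _ _) = 0
        rw [appLE_res η.i (hpre V).le, map_sub, sub_eq_zero]
        show ((η.i.app (j ⁻¹ᵁ V)) ≫ X.presheaf.map _).hom b = ((η.i.app (j ⁻¹ᵁ V)) ≫ X.presheaf.map _).hom _
        rw [CommRingCat.comp_apply, CommRingCat.comp_apply]
        exact congrArg _ hs.symm
      obtain ⟨a, ha⟩ := exists_eps (η := η) (hV.preimage (η.i ≫ j)) h0
      refine ⟨s, res (hpre V).ge a, ?_⟩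
      have h1 := congrArg (res (hpre V).ge) ha
      rw [map_mul, res_str, res_res, res_self] at h1
      rw [h1]
      ring
    obtain ⟨s, b', hb⟩ := key b
    obtain ⟨s', b'', hb'⟩ := key b'
    have he : (j.app V).hom (str p V (eps : D₁ k)) = str η.f (j ⁻¹ᵁ V) (eps : D₁ k) := by
      show ((p.appLE ⊤ V le_top) ≫ j.app V).hom _ = _
      rw [Scheme.Hom.app_eq_appLE, Scheme.Hom.appLE_comp_appLE]
      simp only [hj]
      rfl
    refine ⟨s + str p V (eps : D₁ k) * s', ?_⟩
    have e0 : str η.f (j ⁻¹ᵁ V) (eps : D₁ k) * str η.f (j ⁻¹ᵁ V) eps = 0 := by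
      rw [← map_mul, (setup_eps η).t_sq, map_zero]
    rw [map_add, map_mul, he, hb, hb']
    linear_combination -b'' * e0

variable {c : X ⟶ CohB1.ProjSpace n k} (hc : c ≫ CohB1.ProjSpace.toSpec n k = x)

/-- The ratios of the given morphism. -/
abbrev DC (c : X ⟶ CohB1.ProjSpace n k) (x : X ⟶ Spec (CommRingCat.of k)) : Ample.ProjMap.Data n x :=
  Ample.ProjMap.dataOfMorphism c x

theorem isAffineOpen_DC [IsAffineHom c] (i : Fin (n + 1)) : IsAffineOpen ((DC c x).U i) :=
  (Proj.isAffineOpen_basicOpen _ _ (Ample.ProjMap.X_mem i) one_pos).preimage c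

include hc in
/-- Exact lifts embed the deformation compatibly with the given embedding. -/
theorem exists_immersion [IsClosedImmersion c] {η : DefSch X x (D₁ k)} (s : Lifts (DC c x) η)
    (hs : ∀ j l m, s.err j l m = 0) :
    ∃ j : η.total ⟶ XA (CohB1.ProjSpace.toSpec n k) (D₁ k), IsClosedImmersion j ∧
      j ≫ XApr (CohB1.ProjSpace.toSpec n k) (D₁ k) = η.f ∧
      η.i ≫ j = c ≫ XAincl (CohB1.ProjSpace.toSpec n k) (D₁ k) := by
  let D := DC c x
  let q : η.total ⟶ Spec (CommRingCat.of k) := η.f ≫ specOver (D₁ k)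
  have hcov : ⨆ i, ext η (D.U i) = ⊤ := eq_of_preimage η (by
    rw [Scheme.Hom.preimage_iSup, Scheme.Hom.preimage_top]
    simp only [preimage_ext]
    exact D.cover)
  let E : Ample.ProjMap.Data n q :=
    { U := fun i => ext η (D.U i)
      φ := s.σ
      cover := hcov
      self := s.σ_self
      change := fun j l m W hj hl => by
        have hle : W ≤ ext η (UU D j l) := by rw [ext_inf]; exact le_inf hj hl
        have h := congrArg (res hle) (hs j l m)
        simp only [Lifts.err, map_sub, map_mul, map_zero, res_res] at h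
        have h' := (sub_eq_zero.1 h).symm
        erw [res_res, res_res, res_res] at h'
        exact h'
      basicOpen_eq := fun j l => by
        refine eq_of_preimage η ?_
        rw [Scheme.Hom.preimage_inf, preimage_ext, preimage_ext, ← D.basicOpen_eq j l, ← s.red_σ j l, red,
          Scheme.basicOpen_appLE]
        refine (inf_eq_right.2 ((Scheme.Hom.preimage_mono η.i (η.total.basicOpen_le _)).trans ?_)).symm
        exact (preimage_ext η _).le }
  let G : η.total ⟶ CohB1.ProjSpace n k := E.map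
  have hG : G ≫ CohB1.ProjSpace.toSpec n k = q := E.map_toSpec
  have hpre : ∀ K : ULift.{u} (Fin (n + 1)), (η.i ≫ G) ⁻¹ᵁ (Ample.ProjMap.pcoc n k).D K = D.U K.down := fun K => by
    rw [Scheme.Hom.comp_preimage]
    exact (congrArg (η.i ⁻¹ᵁ ·) (E.map_preimage K.down)).trans (preimage_ext η _)
  have hbase : (η.i ≫ G) ≫ CohB1.ProjSpace.toSpec n k = c ≫ CohB1.ProjSpace.toSpec n k := by
    rw [Category.assoc, hG, hc]
    show η.i ≫ η.f ≫ specOver (D₁ k) = x
    rw [← Category.assoc, η.i_f, Category.assoc, specRes_comp, comp_specRes_base]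
  have hiG : η.i ≫ G = c := by
    refine Ample.ProjMap.ext_of_ratios _ _ hbase (fun K => (hpre K).le) fun K m => ?_
    obtain ⟨K⟩ := K
    show ((η.i ≫ G).appLE (Proj.basicOpen (CohB1.polyGrading n k) (MvPolynomial.X K))
      ((η.i ≫ G) ⁻¹ᵁ (Ample.ProjMap.pcoc n k).D ⟨K⟩) le_rfl).hom
      ((Proj.awayToSection (CohB1.polyGrading n k) (MvPolynomial.X K)).hom (Ample.ProjMap.ratio K m)) =
        res (hpre ⟨K⟩).le (D.φ K m)
    have hle : (η.i ≫ G) ⁻¹ᵁ (Ample.ProjMap.pcoc n k).D ⟨K⟩ ≤ η.i ⁻¹ᵁ ext η (D.U K) :=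
      (hpre ⟨K⟩).le.trans (le_ext η _)
    refine (congrArg (fun f => f.hom
      ((Proj.awayToSection (CohB1.polyGrading n k) (MvPolynomial.X K)).hom (Ample.ProjMap.ratio K m)))
      (Scheme.Hom.appLE_comp_appLE η.i G _ (ext η (D.U K)) _ (E.map_preimage K).ge hle)).symm.trans ?_
    rw [CommRingCat.comp_apply]
    refine (congrArg _ (E.map_appLE_ratio K m le_rfl (E.map_preimage K).ge)).trans ?_
    rw [res_self]
    refine Eq.trans ?_ (congrArg (res (hpre ⟨K⟩).le) (s.red_σ K m))
    rw [red, res_appLE]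
  let j : η.total ⟶ XA (CohB1.ProjSpace.toSpec n k) (D₁ k) := pullback.lift G η.f hG
  have hjp : j ≫ XApr (CohB1.ProjSpace.toSpec n k) (D₁ k) = η.f := pullback.lift_snd _ _ _
  have hij : η.i ≫ j = c ≫ XAincl (CohB1.ProjSpace.toSpec n k) (D₁ k) := by
    apply pullback.hom_ext
    · rw [Category.assoc, pullback.lift_fst, Category.assoc, XAincl_fst, Category.comp_id, hiG]
    · rw [Category.assoc, pullback.lift_snd, η.i_f, Category.assoc, XAincl_snd, ← Category.assoc, hc]
  haveI : IsClosedImmersion (XAincl (CohB1.ProjSpace.toSpec n k) (D₁ k)) :=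
    MorphismProperty.of_isPullback (P := @IsClosedImmersion) (isPullback_XAincl _ _).flip
      (IsClosedImmersion.spec_of_surjective _ (D₁ k).res_surjective)
  haveI : IsClosedImmersion (η.i ≫ j) := by rw [hij]; infer_instance
  exact ⟨j, isClosedImmersion_of_fibre _ j hjp, hjp, hij⟩

end GrothLib.DefFin26
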