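import Groth.Agent.Lib.DefFin26.Forget

/-!
# Finiteness of the tangent space of the deformation functor of a projective scheme
-/

set_option autoImplicit false
set_option maxHeartbeats 1600000
set_option linter.style.haveILetI false
set_option backward.isDefEq.respectTransparency false
universe u

noncomputable section

open CategoryTheory CategoryTheory.Limits AlgebraicGeometry Opposite TopologicalSpace ArtFun ArtFun.Art IsLocalRing

namespace GrothLib.DefFin26

variable {k : Type u} [Field k]

section Forget

variable {X P : Scheme.{u}} {x : X ⟶ specPt k} (y : P ⟶ specPt k) (c : X ⟶ P)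
  [IsClosedImmersion c] (hc : c ≫ y = x)

/-- The class of the abstract deformation underlying an embedded one. -/
def forget {A : Art k k} (I : (localHilb P y c.ker).obj A) : (defFunctor X x).obj A :=
  (exists_rep y c hc I).choose.cl

theorem forget_eq {A : Art k k} {I : (localHilb P y c.ker).obj A} {η : DefSch X x A} (h : Rep y c I η) :
    forget y c hc I = η.cl :=
  (exists_rep y c hc I).choose_spec.unique h

theorem forget_map {A B : Art k k} (g : A ⟶ B) (I : (localHilb P y c.ker).obj A) :
    forget y c hc ((localHilb P y c.ker).map g I) = (defFunctor X x).map g (forget y c hc I) :=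
  forget_eq y c hc ((exists_rep y c hc I).choose_spec.map hc g)

variable [TangentStr (defFunctor (Λ := k) X x)] [TangentStr (localHilb P y c.ker)]

/-- The linear map forgetting the embedding. -/
def forgetL : TangentSpace (localHilb P y c.ker) →ₗ[k] TangentSpace (defFunctor (Λ := k) X x) where
  toFun := forget y c hc
  map_add' u v := by
    obtain ⟨z, hz₁, hz₂⟩ := GrothLib.ArtFun.exists_of_cmp_surjective
      (LocalHilb26.bijective_cmp y c.ker (Art.isFibreProd_dual2 (Λ := k) (k := k))
        (Art.dual k k).res_surjective).surjective u v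
      (GrothLib.ArtFun.h0_eq (LocalHilb26.h0 y c.ker) _ _)
    have h : u + v = (localHilb P y c.ker).map Art.plus z := by
      rw [← TangentStr.add_eq (F := localHilb P y c.ker) z]
      exact congrArg₂ (· + ·) hz₁.symm hz₂.symm
    subst hz₁ hz₂
    refine (congrArg (forget y c hc) h).trans ?_
    refine (forget_map y c hc _ z).trans ?_
    refine (TangentStr.add_eq (F := defFunctor (Λ := k) X x) _).symm.trans ?_
    exact congrArg₂ (fun a b : TangentSpace (defFunctor (Λ := k) X x) => a + b)
      (forget_map y c hc _ z).symm (forget_map y c hc _ z).symm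
  map_smul' a u := by
    refine (congrArg (forget y c hc) (TangentStr.smul_eq a u)).trans ?_
    refine (forget_map y c hc _ u).trans ?_
    exact (TangentStr.smul_eq a _).symm

end Forget

variable {X : Scheme.{u}} {x : X ⟶ specPt k} {n : ℕ} (c : X ⟶ CohB1.ProjSpace n k) [IsClosedImmersion c]
  (hc : c ≫ CohB1.ProjSpace.toSpec n k = x)

include hc in
/-- First order deformations of a projective scheme form a finite dimensional space. -/
theorem hfin [TangentStr (defFunctor (Λ := k) X x)] : Hfin (defFunctor (Λ := k) X x) := by
  let y : CohB1.ProjSpace n k ⟶ specPt k := CohB1.ProjSpace.toSpec n k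
  haveI : IsProper y := Chow.isProper_toSpec n k
  haveI : IsProper x := by rw [← hc]; infer_instance
  haveI : IsProper (c.ker.subschemeι ≫ y) := inferInstance
  have h2 : Heps (localHilb _ y c.ker) := fun B A' p' p'' h =>
    LocalHilb26.bijective_cmp y c.ker h (Art.dual k k).res_surjective
  obtain ⟨S⟩ := GrothLib.ArtFun.nonempty_tangentStr (LocalHilb26.h0 y c.ker) h2
  haveI : Module.Finite k (TangentSpace (localHilb _ y c.ker)) := LocalHilb26.hfin y c.ker
  let D := DC c x
  have haff : ∀ i, IsAffineOpen (D.U i) := fun i => isAffineOpen_DC i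
  haveI : X.IsSeparated := isSeparated_X x
  haveI := finite_T1 D haff
  let ψ : TangentSpace (defFunctor (Λ := k) X x) →ₗ[k] T1 D := psiL haff
  let Φ := forgetL y c hc
  have hker : LinearMap.ker ψ ≤ LinearMap.range Φ := by
    intro u hu
    induction u using Quotient.inductionOn with | h η =>
    obtain ⟨s⟩ := exists_lifts haff η
    obtain ⟨α, hα⟩ := exists_alpha haff s
    have h0 : cls α (hα.isCocycle haff) = 0 := (psi_eq haff η hα rfl (hα.isCocycle haff)).symm.trans hu
    obtain ⟨s', hs'⟩ := exists_exact haff hα h0
    obtain ⟨j, hj, hp, hi⟩ := exists_immersion hc s' hs'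
    haveI := hj
    have sq : IsPullback η.i c j (XAincl y (D₁ k)) := by
      refine IsPullback.of_bot ?_ hi (isPullback_XAincl y (D₁ k))
      rw [hp, hc]
      exact η.isPullback
    have hflat : FlatOver (CohB1.ProjSpace n k) y (D₁ k) j.ker := by
      show Flat (j.ker.subschemeι ≫ XApr y (D₁ k))
      have he : inv j.toImage ≫ η.f = j.ker.subschemeι ≫ XApr y (D₁ k) := by
        rw [IsIso.inv_comp_eq, ← hp, ← Category.assoc]
        exact congrArg (· ≫ _) (Scheme.Hom.toImage_imageι j).symm
      rw [← he]
      infer_instance
    have hfib : j.ker.comap (XAincl y (D₁ k)) = c.ker := by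
      rw [← Scheme.IdealSheafData.ker_fst_of_isClosedImmersion, ← sq.flip.isoPullback_hom_fst,
        Scheme.Hom.ker_comp_of_isIso]
    exact ⟨(⟨j.ker, hflat, hfib⟩ : (localHilb _ y c.ker).obj (D₁ k)),
      forget_eq y c hc ⟨j, hj, rfl, hp, hi⟩⟩
  haveI : Module.Finite k (LinearMap.range Φ) := Module.Finite.range Φ
  haveI : Module.Finite k (LinearMap.ker ψ) :=
    Module.Finite.of_injective (Submodule.inclusion hker) (Submodule.inclusion_injective hker)
  haveI : Module.Finite k (TangentSpace (defFunctor (Λ := k) X x) ⧸ LinearMap.ker ψ) :=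
    Module.Finite.equiv ψ.quotKerEquivRange.symm
  exact Module.Finite.of_submodule_quotient (LinearMap.ker ψ)

end GrothLib.DefFin26
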