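import Groth.Agent.Lib.DefFin26.Cx
import Groth.Agent.Lib.DefAut26.Art
import Groth.Agent.Lib.Affine25.General
import Groth.Prelude.Def_ArtFun4
import Groth.Prelude.Def_ArtFun2

/-!
# Lifting the coordinates of a projective scheme to a deformation

On a deformation `ξ` of `X` choose lifts `σ j m` of the ratios `φ j m`; the failure `σ j l * σ l m - σ j m` of the
cocycle identity is `ε α`, and `t_m α_p - t_p α_m` is a one-cocycle in families of sections of `O(2)` killed by `∧ T`.
-/

set_option autoImplicit false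
set_option maxHeartbeats 1600000
set_option linter.style.haveILetI false
set_option backward.isDefEq.respectTransparency false
universe u

noncomputable section

open CategoryTheory CategoryTheory.Limits AlgebraicGeometry Opposite TopologicalSpace ArtFun ArtFun.Art IsLocalRing
open GrothLib.Ample (res res_res res_self res_appLE appLE_res)
open GrothLib.DefAut26 (str map_str)

namespace GrothLib.DefFin26

variable {k : Type u} [Field k] {X : Scheme.{u}} {x : X ⟶ Spec (CommRingCat.of k)} {n : ℕ}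

section Thick

variable {Λ : Type u} [CommRing Λ] [Algebra Λ k] {A B : Art Λ k} (ξ : DefSch X x A)

theorem isClosedImmersion_i : IsClosedImmersion ξ.i :=
  haveI : IsClosedImmersion (specRes A) := IsClosedImmersion.spec_of_surjective _ A.res_surjective
  MorphismProperty.of_isPullback (P := @IsClosedImmersion) ξ.isPullback.flip inferInstance

theorem surjective_i_fun : Function.Surjective ξ.i := (DefAut26.surjective_i ξ).surj

/-- The open subset of the total space over an open subset of `X`. -/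
def ext (V : X.Opens) : ξ.total.Opens :=
  haveI := isClosedImmersion_i ξ
  ⟨ξ.i '' V, ξ.i.isEmbedding.isInducing.isOpen_iff.1 V.2 |>.elim fun O hO => by
    rw [show (V : Set X) = V.carrier from rfl, ← hO.2, Set.image_preimage_eq _ (surjective_i_fun ξ)]; exact hO.1⟩

theorem preimage_ext (V : X.Opens) : ξ.i ⁻¹ᵁ ext ξ V = V :=
  haveI := isClosedImmersion_i ξ
  Opens.ext (Set.preimage_image_eq _ ξ.i.isEmbedding.injective)

theorem le_ext (V : X.Opens) : V ≤ ξ.i ⁻¹ᵁ ext ξ V := (preimage_ext ξ V).ge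

theorem eq_of_preimage {O O' : ξ.total.Opens} (h : ξ.i ⁻¹ᵁ O = ξ.i ⁻¹ᵁ O') : O = O' :=
  Opens.ext ((surjective_i_fun ξ).preimage_injective (congrArg (fun V : X.Opens => (V : Set X)) h))

theorem ext_preimage (O : ξ.total.Opens) : ext ξ (ξ.i ⁻¹ᵁ O) = O := eq_of_preimage ξ (preimage_ext ξ _)

theorem ext_mono {V V' : X.Opens} (h : V ≤ V') : ext ξ V ≤ ext ξ V' := Set.image_mono h

theorem ext_inf (V V' : X.Opens) : ext ξ (V ⊓ V') = ext ξ V ⊓ ext ξ V' :=
  eq_of_preimage ξ (by rw [Scheme.Hom.preimage_inf, preimage_ext, preimage_ext, preimage_ext])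

theorem isAffineOpen_ext {V : X.Opens} (hV : IsAffineOpen V) : IsAffineOpen (ext ξ V) := by
  haveI := isClosedImmersion_i ξ
  haveI := DefAut26.surjective_i ξ
  haveI : IsAffine (ξ.i ⁻¹ᵁ ext ξ V).toScheme := by rw [preimage_ext]; exact hV
  haveI : Surjective (ξ.i ∣_ ext ξ V) := IsZariskiLocalAtTarget.restrict (P := @Surjective) inferInstance _
  exact Affine25.isAffine_of_surjective_universallyClosed (ξ.i ∣_ ext ξ V)

/-- Reduction to the closed fibre. -/
def red (V : X.Opens) : Γ(ξ.total, ext ξ V) →+* Γ(X, V) := (ξ.i.appLE (ext ξ V) V (le_ext ξ V)).hom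

theorem red_res {V V' : X.Opens} (h : V' ≤ V) (b : Γ(ξ.total, ext ξ V)) :
    red ξ V' (res (ext_mono ξ h) b) = res h (red ξ V b) := by
  rw [red, red, res_appLE]
  exact appLE_res ξ.i _ _ _

theorem app_eq_zero_iff (V : X.Opens) (b : Γ(ξ.total, ext ξ V)) :
    (ξ.i.app (ext ξ V)).hom b = 0 ↔ red ξ V b = 0 := by
  have h : red ξ V b = res (le_ext ξ V) ((ξ.i.app (ext ξ V)).hom b) := rfl
  constructor
  · intro hb; rw [h, hb, map_zero]
  · intro hb
    have h2 : (ξ.i.app (ext ξ V)).hom b = res (preimage_ext ξ V).le (red ξ V b) := by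
      rw [h, res_res, res_self]
    rw [h2, hb, map_zero]

theorem red_surjective {V : X.Opens} (hV : IsAffineOpen V) : Function.Surjective (red ξ V) := by
  intro r
  haveI := isClosedImmersion_i ξ
  obtain ⟨b, hb⟩ := ξ.i.app_surjective _ (isAffineOpen_ext ξ hV) (res (preimage_ext ξ V).le r)
  refine ⟨b, ?_⟩
  show res (le_ext ξ V) ((ξ.i.app _).hom b) = r
  rw [hb, res_res, res_self]

theorem red_str (V : X.Opens) (a : A) : red ξ V (str ξ.f (ext ξ V) a) = cst x V (A.res a) := by
  have h := congrArg (fun e : X ⟶ spec A => (e.appLE ⊤ V le_top).hom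
    ((Scheme.ΓSpecIso (CommRingCat.of A)).inv.hom a)) ξ.i_f
  dsimp only at h
  rw [← Scheme.Hom.appLE_comp_appLE ξ.i ξ.f ⊤ (ext ξ V) V le_top (le_ext ξ V),
    ← Scheme.Hom.appLE_comp_appLE x (specRes A) ⊤ ⊤ V le_top le_top, CommRingCat.comp_apply,
    CommRingCat.comp_apply] at h
  refine h.trans ?_
  have h2 : ((specRes A).appLE ⊤ ⊤ le_top).hom ((Scheme.ΓSpecIso (CommRingCat.of A)).inv.hom a) =
      (Scheme.ΓSpecIso (CommRingCat.of k)).inv.hom (A.res a) := by
    rw [show ((specRes A).appLE ⊤ ⊤ le_top) = (specRes A).appTop by simp [Scheme.Hom.appLE, Scheme.Hom.appTop]]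
    exact (congrArg (fun χ : CommRingCat.of A ⟶ Γ(specPt k, ⊤) => χ.hom a)
      (Scheme.ΓSpecIso_inv_naturality (CommRingCat.ofHom A.res.toRingHom))).symm
  rw [h2]
  rfl

theorem exists_of_red_eq_zero {V : X.Opens} (hV : IsAffineOpen V) {b : Γ(ξ.total, ext ξ V)} (hb : red ξ V b = 0) :
    b ∈ (RingHom.ker A.res.toRingHom).map (str ξ.f (ext ξ V)) := by
  rw [← DefAut26.ker_app ξ.f (φ := A.res.toRingHom) A.res_surjective ξ.isPullback ⟨ext ξ V, isAffineOpen_ext ξ hV⟩]
  exact RingHom.mem_ker.2 ((app_eq_zero_iff ξ V b).2 hb)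

variable {ξ}

/-- A map of deformations along a map of bases, on the level of schemes. -/
structure Over' (g : A ⟶ B) (ξ : DefSch X x A) (η : DefSch X x B) : Type u where
  hom : η.total ⟶ ξ.total
  w : hom ≫ ξ.f = η.f ≫ specMap g
  i_hom : η.i ≫ hom = ξ.i

variable {g : A ⟶ B} {η : DefSch X x B} (h : Over' g ξ η)

theorem Over'.le (V : X.Opens) : ext η V ≤ h.hom ⁻¹ᵁ ext ξ V := by
  refine le_of_eq (eq_of_preimage η ?_).symm
  rw [preimage_ext, ← Scheme.Hom.comp_preimage, h.i_hom, preimage_ext]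

/-- Pushing functions along a map of deformations. -/
def Over'.push (V : X.Opens) : Γ(ξ.total, ext ξ V) →+* Γ(η.total, ext η V) :=
  (h.hom.appLE (ext ξ V) (ext η V) (h.le V)).hom

theorem Over'.push_res {V V' : X.Opens} (hV : V' ≤ V) (b : Γ(ξ.total, ext ξ V)) :
    h.push V' (res (ext_mono ξ hV) b) = res (ext_mono η hV) (h.push V b) := by
  rw [Over'.push, Over'.push, res_appLE]
  exact appLE_res h.hom _ _ _

theorem Over'.red_push (V : X.Opens) (b : Γ(ξ.total, ext ξ V)) : red η V (h.push V b) = red ξ V b := by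
  show (η.i.appLE _ V _).hom ((h.hom.appLE _ _ _).hom b) = _
  rw [← CommRingCat.comp_apply, Scheme.Hom.appLE_comp_appLE]
  simp only [h.i_hom]
  rfl

theorem Over'.push_str (V : X.Opens) (a : A) : h.push V (str ξ.f (ext ξ V) a) = str η.f (ext η V) (g a) := by
  have hh := congrArg (fun e : η.total ⟶ spec A => (e.appLE ⊤ (ext η V) le_top).hom
    ((Scheme.ΓSpecIso (CommRingCat.of A)).inv.hom a)) h.w
  dsimp only at hh
  rw [← Scheme.Hom.appLE_comp_appLE h.hom ξ.f ⊤ (ext ξ V) (ext η V) le_top (h.le V),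
    ← Scheme.Hom.appLE_comp_appLE η.f (specMap g) ⊤ ⊤ (ext η V) le_top le_top, CommRingCat.comp_apply,
    CommRingCat.comp_apply] at hh
  refine hh.trans ?_
  have h2 : ((specMap g).appLE ⊤ ⊤ le_top).hom ((Scheme.ΓSpecIso (CommRingCat.of A)).inv.hom a) =
      (Scheme.ΓSpecIso (CommRingCat.of B)).inv.hom (g a) := by
    rw [show ((specMap g).appLE ⊤ ⊤ le_top) = (specMap g).appTop by simp [Scheme.Hom.appLE, Scheme.Hom.appTop]]
    exact (congrArg (fun χ : CommRingCat.of A ⟶ Γ(spec B, ⊤) => χ.hom a)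
      (Scheme.ΓSpecIso_inv_naturality (CommRingCat.ofHom g.toAlgHom.toRingHom))).symm
  rw [h2]
  rfl

/-- An isomorphism of deformations, as a map along the identity. -/
def Over'.ofIso {ξ ξ' : DefSch X x A} (e : ξ.Iso ξ') : Over' (𝟙 A) ξ' ξ :=
  ⟨e.iso.hom, by rw [Art.specMap_id, Category.comp_id]; exact e.hom_f, e.i_hom⟩

/-- The projection from a base change. -/
def Over'.baseChange (ξ : DefSch X x A) (g : A ⟶ B) : Over' g ξ (ξ.baseChange g) :=
  ⟨pullback.fst ξ.f (specMap g), pullback.condition, DefSch.baseChange_i_fst ξ g⟩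

end Thick

variable (D : Ample.ProjMap.Data n x)

/-- The overlap of two pieces. -/
abbrev UU (j l : Fin (n + 1)) : X.Opens := D.U j ⊓ D.U l

section Lifts

variable {A B : Art k k} {ξ : DefSch X x A} {η : DefSch X x B}

variable (ξ) in
/-- Lifts of the ratios. -/
structure Lifts : Type u where
  σ : ∀ j, Fin (n + 1) → Γ(ξ.total, ext ξ (D.U j))
  red_σ : ∀ j m, red ξ (D.U j) (σ j m) = D.φ j m
  σ_self : ∀ j, σ j j = 1

variable {D}

/-- The failure of the cocycle identity. -/
def Lifts.err (s : Lifts D ξ) (j l m : Fin (n + 1)) : Γ(ξ.total, ext ξ (UU D j l)) :=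
  res (ext_mono ξ inf_le_left) (s.σ j l) * res (ext_mono ξ inf_le_right) (s.σ l m) -
    res (ext_mono ξ inf_le_left) (s.σ j m)

theorem Lifts.red_err (s : Lifts D ξ) (j l m : Fin (n + 1)) : red ξ _ (s.err j l m) = 0 := by
  rw [Lifts.err, map_sub, map_mul, red_res ξ inf_le_left, red_res ξ inf_le_right,
    red_res ξ inf_le_left, s.red_σ, s.red_σ, s.red_σ,
    ← D.change j l m _ inf_le_left inf_le_right, sub_self]

/-- Pushing lifts along a map of deformations. -/
def Lifts.push {g : A ⟶ B} (h : Over' g ξ η) (s : Lifts D ξ) : Lifts D η where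
  σ j m := h.push _ (s.σ j m)
  red_σ j m := (h.red_push _ _).trans (s.red_σ j m)
  σ_self j := by rw [s.σ_self, map_one]

theorem Lifts.err_push {g : A ⟶ B} (h : Over' g ξ η) (s : Lifts D ξ) (j l m : Fin (n + 1)) :
    (s.push h).err j l m = h.push _ (s.err j l m) := by
  rw [Lifts.err, Lifts.err, map_sub, map_mul, h.push_res inf_le_left, h.push_res inf_le_right,
    h.push_res inf_le_left]
  rfl

theorem exists_lifts (haff : ∀ i, IsAffineOpen (D.U i)) (ξ : DefSch X x A) : Nonempty (Lifts D ξ) := by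
  have h : ∀ j m, ∃ b, red ξ (D.U j) b = D.φ j m ∧ (m = j → b = 1) := fun j m => by
    by_cases hm : m = j
    · exact ⟨1, by rw [map_one, hm, D.self], fun _ => rfl⟩
    · obtain ⟨b, hb⟩ := red_surjective ξ (haff j) (D.φ j m)
      exact ⟨b, hb, fun h => absurd h hm⟩
  choose b hb hb1 using h
  exact ⟨⟨b, hb, fun j => hb1 j j rfl⟩⟩

end Lifts

/-- The dual numbers. -/
abbrev D₁ (k : Type u) [Field k] : Art k k := Art.dual k k

/-- `ε`. -/
abbrev eps : D₁ k := (DualNumber.eps : DualNumber k)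

section Alpha

variable {D} {η : DefSch X x (D₁ k)}

theorem setup_eps (η : DefSch X x (D₁ k)) :
    DefAut26.Setup (eps : D₁ k) (D₁ k).res.toRingHom x η.f η.i := by
  have h0 : ∀ a ∈ maximalIdeal (D₁ k), a * eps = 0 := fun a ha => by
    have h1 : TrivSqZeroExt.fst (show DualNumber k from a) = 0 := (Art.mem_maximalIdeal_iff _ a).1 ha
    refine TrivSqZeroExt.ext ?_ ?_
    · show TrivSqZeroExt.fst ((show DualNumber k from a) * DualNumber.eps) = 0
      simp
    · show TrivSqZeroExt.snd ((show DualNumber k from a) * DualNumber.eps) = 0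
      simp [h1]
  refine DefAut26.setup η eps (fun h => ?_) ?_ h0
  · have h2 := congrArg (fun z : DualNumber k => TrivSqZeroExt.snd z) h
    simp at h2
  · rw [Art.mem_maximalIdeal_iff]
    exact DualNumber.fst_eps

/-- `α` is the first order failure of the cocycle identity. -/
def IsAlpha (s : Lifts D η) (α : ∀ j l : Fin (n + 1), Fin (n + 1) → Γ(X, UU D j l)) : Prop :=
  ∀ j l m, ∃ a, red η _ a = α j l m ∧ str η.f _ (eps : D₁ k) * a = s.err j l m

theorem red_eq_of_eps (haff : ∀ i, IsAffineOpen (D.U i)) [X.IsSeparated] {V : X.Opens} (hV : IsAffineOpen V)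
    {a b : Γ(η.total, ext η V)} : red η V a = red η V b ↔ str η.f _ (eps : D₁ k) * a = str η.f _ eps * b := by
  rw [← sub_eq_zero, ← map_sub, ← app_eq_zero_iff, map_sub, sub_eq_zero]
  exact (setup_eps η).app_eq_iff ⟨ext η V, isAffineOpen_ext η hV⟩

end Alpha

end GrothLib.DefFin26
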