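import Groth.Agent.Lib.DefFin26.Class
import Groth.Agent.Lib.DefGlue19.Functor
import Groth.Agent.Lib.ArtFun.Criteria
import Groth.Agent.Lib.ArtFun.Tangent

/-!
# The linear map from the tangent space of the deformation functor to the finite space
-/

set_option autoImplicit false
set_option maxHeartbeats 1600000
set_option linter.style.haveILetI false
set_option backward.isDefEq.respectTransparency false
universe u

noncomputable section

open CategoryTheory CategoryTheory.Limits AlgebraicGeometry Opposite TopologicalSpace ArtFun ArtFun.Art IsLocalRing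
open GrothLib.Ample (res res_res res_self res_appLE appLE_res)
open GrothLib.DefAut26 (str map_str)

namespace GrothLib.DefFin26

variable {k : Type u} [Field k] {X : Scheme.{u}} {x : X ⟶ Spec (CommRingCat.of k)} {n : ℕ}
  {D : Ample.ProjMap.Data n x}

/-- The constant `c` in the dual numbers. -/
abbrev con (c : k) : D₁ k := (TrivSqZeroExt.inl c : DualNumber k)

theorem omega_lin (c₁ c₂ : k) (α₁ α₂ : Vals D) :
    omega (fun j l m => cst x (UU D j l) c₁ * α₁ j l m + cst x (UU D j l) c₂ * α₂ j l m) =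
      c₁ • omega α₁ + c₂ • omega α₂ := by
  funext t a
  refine fr_ext D (a 0) (W_le D a 0) ?_
  show _ = fr D (a 0) _ (c₁ • omega α₁ t a + c₂ • omega α₂ t a)
  rw [fr_add, fr_smul, fr_smul]
  dsimp only [omega]
  rw [fr_el, fr_el, fr_el]
  simp only [raw, map_add, map_mul]
  have hc : ∀ c : k, res (le_inf (W_le D a 0) (W_le D a 1)) (cst x (UU D (a 0).down (a 1).down) c) =
      cst x (W D a) c := fun c => res_res _ _ _
  rw [hc, hc]
  ring

theorem cls_lin (c₁ c₂ : k) {α₁ α₂ : Vals D} (h₁ : IsCocycle α₁) (h₂ : IsCocycle α₂)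
    (h : IsCocycle (D := D) fun j l m => cst x (UU D j l) c₁ * α₁ j l m + cst x (UU D j l) c₂ * α₂ j l m) :
    cls _ h = c₁ • cls α₁ h₁ + c₂ • cls α₂ h₂ := by
  rw [cls, cls, cls, ← map_smul, ← map_smul, ← map_add]
  exact congrArg _ (Subtype.ext (omega_lin c₁ c₂ α₁ α₂))

section Push

variable {A : Art k k} {ξ : DefSch X x A} {η : DefSch X x (D₁ k)}

/-- The failure of the cocycle identity is `a₁ α₁ + a₂ α₂` to first order. -/
def IsAlpha2 (s : Lifts D ξ) (a₁ a₂ : A) (α₁ α₂ : Vals D) : Prop :=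
  ∀ j l m, ∃ b₁ b₂, red ξ _ b₁ = α₁ j l m ∧ red ξ _ b₂ = α₂ j l m ∧
    str ξ.f _ a₁ * b₁ + str ξ.f _ a₂ * b₂ = s.err j l m

theorem IsAlpha2.push {s : Lifts D ξ} {a₁ a₂ : A} {α₁ α₂ : Vals D} (h : IsAlpha2 s a₁ a₂ α₁ α₂)
    {g : A ⟶ D₁ k} (v : Over' g ξ η) {c₁ c₂ : k} (h₁ : g a₁ = con c₁ * eps) (h₂ : g a₂ = con c₂ * eps) :
    IsAlpha (s.push v) (fun j l m => cst x (UU D j l) c₁ * α₁ j l m + cst x (UU D j l) c₂ * α₂ j l m) := by
  intro j l m
  obtain ⟨b₁, b₂, r₁, r₂, e⟩ := h j l m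
  refine ⟨str η.f _ (con c₁) * v.push _ b₁ + str η.f _ (con c₂) * v.push _ b₂, ?_, ?_⟩
  · rw [map_add, map_mul, map_mul, v.red_push, v.red_push, r₁, r₂, red_str, red_str]
    rfl
  · rw [Lifts.err_push, ← e, map_add, map_mul, map_mul, v.push_str, v.push_str, h₁, h₂, map_mul, map_mul]
    ring

end Push

theorem exists_alpha2 [X.IsSeparated] (haff : ∀ i, IsAffineOpen (D.U i)) {A : Art k k} (ξ : DefSch X x A)
    (a₁ a₂ : A) (hker : RingHom.ker A.res.toRingHom ≤ Ideal.span {a₁, a₂}) :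
    ∃ (s : Lifts D ξ) (α₁ α₂ : Vals D), IsAlpha2 s a₁ a₂ α₁ α₂ := by
  obtain ⟨s⟩ := exists_lifts haff ξ
  have h : ∀ j l m, ∃ b₁ b₂ : Γ(ξ.total, ext ξ (UU D j l)),
      str ξ.f _ a₁ * b₁ + str ξ.f _ a₂ * b₂ = s.err j l m := fun j l m => by
    have h1 := Ideal.map_mono (f := str ξ.f (ext ξ (UU D j l))) hker
      (exists_of_red_eq_zero ξ ((haff j).inf (haff l)) (s.red_err j l m))
    rw [Ideal.map_span, Set.image_pair, Ideal.mem_span_pair] at h1
    obtain ⟨b₁, b₂, e⟩ := h1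
    exact ⟨b₁, b₂, by rw [← e]; ring⟩
  choose b₁ b₂ e using h
  exact ⟨s, fun j l m => red ξ _ (b₁ j l m), fun j l m => red ξ _ (b₂ j l m),
    fun j l m => ⟨b₁ j l m, b₂ j l m, rfl, rfl, e j l m⟩⟩

theorem IsAlpha.of_iso {η η' : DefSch X x (D₁ k)} (e : η.Iso η') {s : Lifts D η'} {α : Vals D}
    (h : IsAlpha s α) : IsAlpha (s.push (Over'.ofIso e)) α := by
  intro j l m
  obtain ⟨a, ha, ea⟩ := h j l m
  refine ⟨(Over'.ofIso e).push _ a, ((Over'.ofIso e).red_push _ _).trans ha, ?_⟩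
  rw [Lifts.err_push, ← ea, map_mul, Over'.push_str]
  rfl

variable [IsSeparated x] (haff : ∀ i, IsAffineOpen (D.U i))

theorem isSeparated_X {k : Type u} [Field k] {X : Scheme.{u}} (x : X ⟶ Spec (CommRingCat.of k)) [IsSeparated x] :
    X.IsSeparated := ⟨by
  rw [show terminal.from X = x ≫ terminal.from _ from terminalIsTerminal.hom_ext _ _]
  infer_instance⟩

/-- The class of an element of the tangent space. -/
def IsPsi (u : (defFunctor X x).obj (D₁ k)) (t : T1 D) : Prop :=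
  ∀ (η : DefSch X x (D₁ k)) (s : Lifts D η) (α : Vals D), IsAlpha s α → η.cl = u →
    ∀ hc : IsCocycle α, cls α hc = t

include haff in
theorem exists_psi (u : (defFunctor X x).obj (D₁ k)) : ∃ t : T1 D, IsPsi u t := by
  haveI := isSeparated_X x
  induction u using Quotient.inductionOn with | h ξ =>
  obtain ⟨s₀⟩ := exists_lifts haff ξ
  obtain ⟨α₀, h₀⟩ := exists_alpha haff s₀
  refine ⟨cls α₀ (h₀.isCocycle haff), fun η s α hα he hc => ?_⟩
  obtain ⟨e⟩ : Nonempty (η.Iso ξ) := Quotient.exact he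
  exact cls_eq haff (h₀.of_iso e) hα

/-- The map to the finite space. -/
def psi (u : TangentSpace (defFunctor (Λ := k) X x)) : T1 D := (exists_psi haff u).choose

theorem psi_eq {u : TangentSpace (defFunctor (Λ := k) X x)} (η : DefSch X x (D₁ k)) {s : Lifts D η} {α : Vals D}
    (hα : IsAlpha s α) (he : η.cl = u) (hc : IsCocycle α) : psi haff u = cls α hc :=
  ((exists_psi haff u).choose_spec η s α hα he hc).symm

theorem psi_baseChange {A : Art k k} (ξ : DefSch X x A) {s : Lifts D ξ} {a₁ a₂ : A} {α₁ α₂ : Vals D}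
    (h : IsAlpha2 s a₁ a₂ α₁ α₂) (g : A ⟶ D₁ k) {c₁ c₂ : k} (h₁ : g a₁ = con c₁ * eps)
    (h₂ : g a₂ = con c₂ * eps) (hc₁ : IsCocycle α₁) (hc₂ : IsCocycle α₂) :
    psi haff ((defFunctor X x).map g ξ.cl) = c₁ • cls α₁ hc₁ + c₂ • cls α₂ hc₂ := by
  haveI := isSeparated_X x
  have hα := h.push (Over'.baseChange ξ g) h₁ h₂
  exact (psi_eq haff (ξ.baseChange g) hα rfl (hα.isCocycle haff)).trans (cls_lin c₁ c₂ hc₁ hc₂ _)

variable [TangentStr (defFunctor (Λ := k) X x)]

include haff in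
theorem psi_smul (c : k) (u : TangentSpace (defFunctor (Λ := k) X x)) :
    psi haff (c • u) = c • psi haff u := by
  haveI := isSeparated_X x
  induction u using Quotient.inductionOn with | h ξ =>
  obtain ⟨s⟩ := exists_lifts haff ξ
  obtain ⟨α, hα⟩ := exists_alpha haff s
  have h2 : IsAlpha2 s (eps : D₁ k) (eps : D₁ k) α (fun j l m => 0) := fun j l m => by
    obtain ⟨a, ha, e⟩ := hα j l m
    exact ⟨a, 0, ha, map_zero _, by rw [mul_zero, add_zero]; exact e⟩
  have h0 : IsCocycle (D := D) fun j l m => 0 := fun j l q m V hj hl hq => by simp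
  have hg : (Art.scale c : D₁ k ⟶ D₁ k) eps = con c * eps := by
    refine TrivSqZeroExt.ext ?_ ?_
    · show (0 : k) = TrivSqZeroExt.fst ((TrivSqZeroExt.inl c : DualNumber k) * DualNumber.eps)
      simp
    · show c * 1 = TrivSqZeroExt.snd ((TrivSqZeroExt.inl c : DualNumber k) * DualNumber.eps)
      simp
  refine (congrArg (psi haff) (TangentStr.smul_eq c _)).trans ?_
  refine (psi_baseChange haff ξ h2 (Art.scale c) hg hg (hα.isCocycle haff) h0).trans ?_
  refine Eq.trans ?_ (congrArg (fun t : T1 D => c • t) (psi_eq haff ξ hα rfl (hα.isCocycle haff))).symm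
  rw [show cls (D := D) (fun j l m => 0) h0 = 0 from ?_, smul_zero, add_zero]
  have hz := cls_lin (0 : k) 0 h0 h0 (α₁ := fun j l m => 0) (α₂ := fun j l m => 0)
    (by intro j l q m V hj hl hq; simp)
  simp only [mul_zero, add_zero, zero_smul] at hz
  exact hz

include haff in
theorem psi_add (u v : TangentSpace (defFunctor (Λ := k) X x)) :
    psi haff (u + v) = psi haff u + psi haff v := by
  haveI := isSeparated_X x
  obtain ⟨z, hz₁, hz₂⟩ := GrothLib.ArtFun.exists_of_cmp_surjective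
    (DefGlue19.cmp_surjective X x (Art.isFibreProd_dual2 (Λ := k) (k := k)) (Art.dual k k).res_surjective) u v
    (GrothLib.ArtFun.h0_eq (DefGlue19.h0_defFunctor X x) _ _)
  induction z using Quotient.inductionOn with | h ξ =>
  have h : u + v = (defFunctor X x).map Art.plus ξ.cl := by
    rw [← TangentStr.add_eq (F := defFunctor (Λ := k) X x) ξ.cl]
    exact congrArg₂ (· + ·) hz₁.symm hz₂.symm
  subst hz₁ hz₂
  let a₁ : Art.dual2 k k := (TrivSqZeroExt.inr ((1 : k), (0 : k)) : TrivSqZeroExt k (k × k))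
  let a₂ : Art.dual2 k k := (TrivSqZeroExt.inr ((0 : k), (1 : k)) : TrivSqZeroExt k (k × k))
  have key : ∀ (p q : k) (d' : TrivSqZeroExt k (k × k)), d'.fst = 0 → d'.snd.1 = p → d'.snd.2 = q →
      TrivSqZeroExt.inl p * TrivSqZeroExt.inr ((1 : k), (0 : k)) +
        TrivSqZeroExt.inl q * TrivSqZeroExt.inr ((0 : k), (1 : k)) = d' := by
    intro p q d' h0 hp hq
    rw [TrivSqZeroExt.inl_mul_inr, TrivSqZeroExt.inl_mul_inr, ← TrivSqZeroExt.inr_add,
      ← TrivSqZeroExt.inl_fst_add_inr_snd_eq d', h0, TrivSqZeroExt.inl_zero, zero_add]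
    congr 1
    ext <;> simp [← hp, ← hq]
  have hker : RingHom.ker (Art.dual2 k k).res.toRingHom ≤ Ideal.span {a₁, a₂} := by
    intro d hd
    let d' : TrivSqZeroExt k (k × k) := d
    refine Ideal.mem_span_pair.2 ⟨(TrivSqZeroExt.inl d'.snd.1 : TrivSqZeroExt k (k × k)),
      (TrivSqZeroExt.inl d'.snd.2 : TrivSqZeroExt k (k × k)), ?_⟩
    have hd0 : d'.fst = 0 := hd
    exact key d'.snd.1 d'.snd.2 d' hd0 rfl rfl
  obtain ⟨s, α₁, α₂, hα⟩ := exists_alpha2 haff ξ a₁ a₂ hker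
  have ev : ∀ (f : (k × k) →ₗ[k] k) (v : k × k),
      (show D₁ k from (Art.tszeMap f : TrivSqZeroExt k (k × k) →ₐ[k] TrivSqZeroExt k k) (TrivSqZeroExt.inr v)) =
        con (f v) * eps := fun f v => by
    refine TrivSqZeroExt.ext ?_ ?_
    · show (0 : k) = TrivSqZeroExt.fst ((TrivSqZeroExt.inl (f v) : DualNumber k) * DualNumber.eps)
      simp
    · show f v = TrivSqZeroExt.snd ((TrivSqZeroExt.inl (f v) : DualNumber k) * DualNumber.eps)
      simp
  have p1 : (Art.pr₁ : Art.dual2 k k ⟶ D₁ k) a₁ = con 1 * eps := ev (LinearMap.fst k k k) (1, 0)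
  have p2 : (Art.pr₁ : Art.dual2 k k ⟶ D₁ k) a₂ = con 0 * eps := ev (LinearMap.fst k k k) (0, 1)
  have q1 : (Art.pr₂ : Art.dual2 k k ⟶ D₁ k) a₁ = con 0 * eps := ev (LinearMap.snd k k k) (1, 0)
  have q2 : (Art.pr₂ : Art.dual2 k k ⟶ D₁ k) a₂ = con 1 * eps := ev (LinearMap.snd k k k) (0, 1)
  have s1 : (Art.plus : Art.dual2 k k ⟶ D₁ k) a₁ = con 1 * eps :=
    (ev (LinearMap.fst k k k + LinearMap.snd k k k) (1, 0)).trans (by simp)
  have s2 : (Art.plus : Art.dual2 k k ⟶ D₁ k) a₂ = con 1 * eps :=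
    (ev (LinearMap.fst k k k + LinearMap.snd k k k) (0, 1)).trans (by simp)
  have hc₁ : IsCocycle α₁ := by
    have := (hα.push (Over'.baseChange ξ Art.pr₁) p1 p2).isCocycle haff
    simpa only [map_one, map_zero, one_mul, zero_mul, add_zero] using this
  have hc₂ : IsCocycle α₂ := by
    have := (hα.push (Over'.baseChange ξ Art.pr₂) q1 q2).isCocycle haff
    simpa only [map_one, map_zero, one_mul, zero_mul, zero_add] using this
  refine (congrArg (psi haff) h).trans ?_
  show _ = psi haff ((defFunctor X x).map Art.pr₁ ξ.cl) + psi haff ((defFunctor X x).map Art.pr₂ ξ.cl)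
  rw [psi_baseChange haff ξ hα Art.pr₁ p1 p2 hc₁ hc₂, psi_baseChange haff ξ hα Art.pr₂ q1 q2 hc₁ hc₂]
  refine (psi_baseChange haff ξ hα Art.plus s1 s2 hc₁ hc₂).trans ?_
  simp

/-- The linear map. -/
def psiL : TangentSpace (defFunctor (Λ := k) X x) →ₗ[k] T1 D where
  toFun := psi haff
  map_add' := psi_add haff
  map_smul' := psi_smul haff

end GrothLib.DefFin26
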